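import Cfsg.Agent.SuzukiTwo.Unitary
import Cfsg.Agent.Components.Cores

/-!
The automorphism group of the Sylow 2-subgroup of `SU₃(2ⁿ)`.
-/

set_option autoImplicit false
set_option linter.style.haveILetI false
set_option linter.unusedSectionVars false

namespace Cfsg.Lib.SuzukiTwo.Unitary

open Matrix Cfsg.Lib.Classical Cfsg.Lib.Fusion.PSU Cfsg.Lib.Known.AutPSLn

variable {F : Type*} [Field F] [Fintype F] [CharP F 2] {σ : F →+* F} {hσ : IsConj σ}

theorem two_zero : (2 : F) = 0 := CharTwo.two_eq_zero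

/-- A section over the middle coordinate. -/
noncomputable def sec {θ : F} (hθ : θ + σ θ = 1) (b : F) : sylU 3 hσ := (coordEquiv θ hθ).symm (b, 0)

/-- A central element. -/
noncomputable def zEl (f : fixedField σ) : sylU 3 hσ :=
  el 0 f (by rw [zero_mul, add_zero]; exact mem_fixed.mp f.2)

theorem bc_sec {θ : F} (hθ : θ + σ θ = 1) (b : F) : bc (sec (hσ := hσ) hθ b) = b := rfl

theorem bc_zEl (f : fixedField σ) : bc (zEl (hσ := hσ) f) = 0 := rfl

theorem cc_zEl (f : fixedField σ) : cc (zEl (hσ := hσ) f) = f := rfl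

theorem cc_fixed {g : sylU 3 hσ} (h : bc g = 0) : σ (cc g) = cc g := by
  have := rel g
  rw [h, zero_mul, add_zero] at this
  exact (CharTwo.add_eq_zero.mp this).symm

theorem cc_sq (g : sylU 3 hσ) : cc (g * g) = bc g * σ (bc g) := by
  rw [cc_mul, CharTwo.add_self_eq_zero, zero_add]

theorem bc_sq (g : sylU 3 hσ) : bc (g * g) = 0 := by rw [bc_mul, CharTwo.add_self_eq_zero]

theorem central_eq {g : sylU 3 hσ} (h : bc g = 0) : g = zEl ⟨cc g, mem_fixedField.mpr (cc_fixed h)⟩ :=
  ext_coord h rfl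

theorem bc_map_zero (α : MulAut (sylU 3 hσ)) {g : sylU 3 hσ} (h : bc g = 0) : bc (α g) = 0 := by
  rw [← sq_eq_one_iff, ← map_mul, (sq_eq_one_iff g).mpr h, map_one]

theorem bc_inv (g : sylU 3 hσ) : bc g⁻¹ = bc g := by
  have h := bc_mul g⁻¹ g
  rw [inv_mul_cancel, bc_one] at h
  exact (CharTwo.add_eq_zero.mp h.symm)

theorem bc_congr (α : MulAut (sylU 3 hσ)) {g g' : sylU 3 hσ} (h : bc g = bc g') : bc (α g) = bc (α g') := by
  have h1 := bc_map_zero α (g := g * g'⁻¹) (by rw [bc_mul, bc_inv, h, CharTwo.add_self_eq_zero])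
  rw [map_mul, map_inv, bc_mul, bc_inv] at h1
  exact CharTwo.add_eq_zero.mp h1

section

variable {θ : F} (hθ : θ + σ θ = 1)
include hθ

/-- The action on the middle coordinate. -/
noncomputable def bAct : MulAut (sylU 3 hσ) →* Equiv.Perm F :=
  MonoidHom.mk'
    (fun α =>
      { toFun := fun b => bc (α (sec hθ b))
        invFun := fun b => bc (α.symm (sec hθ b))
        left_inv := fun b => by
          show bc (α.symm (sec hθ (bc (α (sec hθ b))))) = b
          rw [bc_congr α.symm (bc_sec hθ (bc (α (sec hθ b)))), MulEquiv.symm_apply_apply, bc_sec]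
        right_inv := fun b => by
          show bc (α (sec hθ (bc (α.symm (sec hθ b))))) = b
          rw [bc_congr α (bc_sec hθ (bc (α.symm (sec hθ b)))), MulEquiv.apply_symm_apply, bc_sec] })
    fun α β => Equiv.ext fun b => by
      show bc (α (β (sec hθ b))) = bc (α (sec hθ (bc (β (sec hθ b)))))
      exact bc_congr α (bc_sec hθ _).symm

theorem bAct_bc (α : MulAut (sylU 3 hσ)) (g : sylU 3 hσ) : bc (α g) = bAct hθ α (bc g) :=
  bc_congr α (bc_sec hθ _).symm

theorem bAct_add (α : MulAut (sylU 3 hσ)) (a b : F) : bAct hθ α (a + b) = bAct hθ α a + bAct hθ α b := by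
  have h := bAct_bc hθ α (sec hθ a * sec hθ b)
  rw [bc_mul, bc_sec, bc_sec, map_mul, bc_mul] at h
  exact h.symm

theorem bAct_zero (α : MulAut (sylU 3 hσ)) : bAct hθ α 0 = 0 := by
  have h := bAct_bc hθ α 1
  rw [map_one, bc_one] at h
  exact h.symm

/-- The action on the centre. -/
noncomputable def zAct (α : MulAut (sylU 3 hσ)) (f : fixedField σ) : F := cc (α (zEl f))

omit hθ in
theorem zAct_add (α : MulAut (sylU 3 hσ)) (f f' : fixedField σ) : zAct α (f + f') = zAct α f + zAct α f' := by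
  have e : zEl (f + f') = zEl (hσ := hσ) f * zEl f' :=
    ext_coord (by rw [bc_mul, bc_zEl, bc_zEl, bc_zEl, add_zero])
      (by rw [cc_mul, cc_zEl, cc_zEl, cc_zEl, bc_zEl, zero_mul, add_zero]; rfl)
  rw [zAct, e, map_mul, cc_mul, bc_map_zero α (bc_zEl f), zero_mul, add_zero]
  rfl

theorem norm_bAct (α : MulAut (sylU 3 hσ)) (b : F) (f : fixedField σ) (hf : (f : F) = b * σ b) :
    bAct hθ α b * σ (bAct hθ α b) = zAct α f := by
  have e : zEl f = sec (hσ := hσ) hθ b * sec hθ b :=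
    ext_coord (by rw [bc_sq, bc_zEl]) (by rw [cc_sq, cc_zEl, bc_sec, hf])
  rw [zAct, e, map_mul, cc_sq]
  rfl

/-- An automorphism fixing every middle coordinate shifts by an additive map. -/
theorem shift_of_ker {α : MulAut (sylU 3 hσ)} (hα : bAct hθ α = 1) (g : sylU 3 hσ) :
    bc (α g) = bc g ∧ cc (α g) = cc g + (cc (α (sec hθ (bc g))) + cc (sec hθ (bc g) : sylU 3 hσ)) := by
  have hb : ∀ x, bc (α x) = bc x := fun x => by rw [bAct_bc hθ α, hα]; rfl
  refine ⟨hb g, ?_⟩
  have hz : ∀ x, bc x = 0 → α x = x := fun x hx => by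
    refine ext_coord (hb x) ?_
    obtain ⟨b, hb'⟩ := hσ.norm_surjective (a := cc x) (cc_fixed hx)
    have e : x = sec hθ b * sec hθ b := ext_coord (by rw [bc_sq, hx]) (by rw [cc_sq, bc_sec, hb'])
    rw [e, map_mul, cc_sq, cc_sq, hb]
  set s := sec (hσ := hσ) hθ (bc g) with hs
  have hsg : bc (s⁻¹ * g) = 0 := by rw [bc_mul, bc_inv, hs, bc_sec, CharTwo.add_self_eq_zero]
  have e : α g = α s * (s⁻¹ * g) := by
    conv_lhs => rw [← mul_inv_cancel_left s g]
    rw [map_mul, hz _ hsg]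
  have e2 := cc_mul s (s⁻¹ * g)
  rw [mul_inv_cancel_left, hsg, map_zero, mul_zero, add_zero] at e2
  rw [e, cc_mul, hsg, map_zero, mul_zero, add_zero]
  linear_combination -e2 - (cc s) * two_zero (F := F)

theorem ker_comm {α β : MulAut (sylU 3 hσ)} (hα : bAct hθ α = 1) (hβ : bAct hθ β = 1) :
    α * β = β * α ∧ α * α = 1 := by
  refine ⟨MulEquiv.ext fun g => ?_, MulEquiv.ext fun g => ?_⟩
  · show α (β g) = β (α g)
    obtain ⟨a1, a2⟩ := shift_of_ker hθ hα (β g)
    obtain ⟨b1, b2⟩ := shift_of_ker hθ hβ g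
    obtain ⟨a3, a4⟩ := shift_of_ker hθ hα g
    obtain ⟨b3, b4⟩ := shift_of_ker hθ hβ (α g)
    refine ext_coord (by rw [a1, b1, b3, a3]) ?_
    rw [a2, b1, b4, a3, b2, a4]
    ring
  · show α (α g) = g
    obtain ⟨a1, a2⟩ := shift_of_ker hθ hα (α g)
    obtain ⟨a3, a4⟩ := shift_of_ker hθ hα g
    refine ext_coord (by rw [a1, a3]) ?_
    rw [a2, a3, a4]
    linear_combination (cc (α (sec hθ (bc g))) + cc (sec hθ (bc g) : sylU 3 hσ)) * two_zero (F := F)

omit hθ in
/-- The automorphism with a given shift. -/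
noncomputable def shiftAut (φ : F →+ fixedField σ) : MulAut (sylU 3 hσ) :=
  have hmem : ∀ g : sylU 3 hσ, cc g + (φ (bc g) : F) + σ (cc g + (φ (bc g) : F)) + bc g * σ (bc g) = 0 := fun g => by
    rw [map_add, show σ (φ (bc g) : F) = φ (bc g) from mem_fixedField.mp (φ (bc g)).2]
    linear_combination rel g + (φ (bc g) : F) * two_zero (F := F)
  { toFun := fun g => el (bc g) (cc g + φ (bc g)) (hmem g)
    invFun := fun g => el (bc g) (cc g + φ (bc g)) (hmem g)
    left_inv := fun g => ext_coord (by rw [bc_el, bc_el]) (by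
      rw [cc_el, cc_el, bc_el, add_assoc, CharTwo.add_self_eq_zero, add_zero])
    right_inv := fun g => ext_coord (by rw [bc_el, bc_el]) (by
      rw [cc_el, cc_el, bc_el, add_assoc, CharTwo.add_self_eq_zero, add_zero])
    map_mul' := fun g g' => ext_coord (by rw [bc_el, bc_mul, bc_mul, bc_el, bc_el]) (by
      rw [cc_el, cc_mul, cc_mul, cc_el, cc_el, bc_el, bc_el, bc_mul, map_add, Subfield.coe_add]
      ring) }

theorem card_ker : Nat.card (bAct (hσ := hσ) hθ).ker = Nat.card (F →+ fixedField σ) := by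
  have key : ∀ α : (bAct (hσ := hσ) hθ).ker, ∀ b : F,
      cc ((α : MulAut (sylU 3 hσ)) (sec hθ b)) + cc (sec hθ b : sylU 3 hσ) ∈ fixedField σ := by
    intro α b
    have h1 := rel ((α : MulAut (sylU 3 hσ)) (sec hθ b))
    rw [(shift_of_ker hθ α.2 _).1, bc_sec] at h1
    have h2 := rel (sec hθ b : sylU 3 hσ)
    rw [bc_sec] at h2
    rw [mem_fixed, map_add]
    linear_combination h1 + h2 - (b * σ b) * two_zero (F := F)
  let D : (bAct (hσ := hσ) hθ).ker → (F →+ fixedField σ) := fun α =>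
    AddMonoidHom.mk' (fun b => ⟨_, key α b⟩) fun a b => Subtype.ext (by
      show cc ((α : MulAut (sylU 3 hσ)) (sec hθ (a + b))) + cc (sec hθ (a + b) : sylU 3 hσ) = _ + _
      obtain ⟨h1, h2⟩ := shift_of_ker hθ α.2 (sec hθ a * sec hθ b)
      rw [map_mul, cc_mul, cc_mul, bc_mul, bc_sec, bc_sec, (shift_of_ker hθ α.2 _).1, (shift_of_ker hθ α.2 _).1,
        bc_sec, bc_sec] at h2
      linear_combination -h2 - (cc (sec hθ a : sylU 3 hσ) + cc (sec hθ b : sylU 3 hσ)) * two_zero (F := F))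
  refine Nat.card_congr ⟨D, fun φ => ⟨shiftAut φ, ?_⟩, fun α => ?_, fun φ => ?_⟩
  · rw [MonoidHom.mem_ker]
    refine Equiv.ext fun b => ?_
    show bc (shiftAut φ (sec hθ b) : sylU 3 hσ) = b
    exact (bc_el _ _ _).trans (bc_sec hθ b)
  · refine Subtype.ext (MulEquiv.ext fun g => ?_)
    obtain ⟨h1, h2⟩ := shift_of_ker hθ α.2 g
    exact ext_coord ((bc_el _ _ _).trans h1.symm) ((cc_el _ _ _).trans h2.symm)
  · refine AddMonoidHom.ext fun b => Subtype.ext ?_
    show cc (shiftAut φ (sec hθ b) : sylU 3 hσ) + cc (sec hθ b : sylU 3 hσ) = φ b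
    rw [show cc (shiftAut φ (sec hθ b) : sylU 3 hσ) = cc (sec hθ b : sylU 3 hσ) + φ b from by
      conv_rhs => rw [← bc_sec (hσ := hσ) hθ b]
      exact cc_el _ _ _]
    linear_combination (cc (sec hθ b : sylU 3 hσ)) * two_zero (F := F)

omit hθ in
/-- A semilinear automorphism. -/
noncomputable def slAut (hcomm : ∀ (τ : F ≃+* F) (x : F), σ (τ x) = τ (σ x)) (l : Fˣ) (τ : F ≃+* F) :
    MulAut (sylU 3 hσ) :=
  have hmem : ∀ g : sylU 3 hσ, ((l : F) * σ l * τ (cc g)) + σ ((l : F) * σ l * τ (cc g)) +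
      ((l : F) * τ (bc g)) * σ ((l : F) * τ (bc g)) = 0 := fun g => by
    simp only [map_mul, hσ.invol, hcomm]
    have h := congrArg τ (rel g)
    rw [map_add, map_add, map_mul, map_zero] at h
    linear_combination ((l : F) * σ l) * h
  have hmem' : ∀ g : sylU 3 hσ, τ.symm (((l : F) * σ l)⁻¹ * cc g) + σ (τ.symm (((l : F) * σ l)⁻¹ * cc g)) +
      τ.symm ((l : F)⁻¹ * bc g) * σ (τ.symm ((l : F)⁻¹ * bc g)) = 0 := fun g => by
    apply τ.injective
    simp only [map_add, map_mul, map_zero, ← hcomm, RingEquiv.apply_symm_apply, map_inv₀, hσ.invol]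
    have h := rel g
    linear_combination ((l : F)⁻¹ * (σ (l : F))⁻¹) * h
  { toFun := fun g => el ((l : F) * τ (bc g)) ((l : F) * σ l * τ (cc g)) (hmem g)
    invFun := fun g => el (τ.symm ((l : F)⁻¹ * bc g)) (τ.symm (((l : F) * σ l)⁻¹ * cc g)) (hmem' g)
    left_inv := fun g => ext_coord (by
      rw [bc_el, bc_el, inv_mul_cancel_left₀ l.ne_zero, RingEquiv.symm_apply_apply]) (by
      rw [cc_el, cc_el, inv_mul_cancel_left₀ (mul_ne_zero l.ne_zero ((map_ne_zero σ).mpr l.ne_zero)),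
        RingEquiv.symm_apply_apply])
    right_inv := fun g => ext_coord (by
      rw [bc_el, bc_el, RingEquiv.apply_symm_apply, mul_inv_cancel_left₀ l.ne_zero]) (by
      rw [cc_el, cc_el, RingEquiv.apply_symm_apply,
        mul_inv_cancel_left₀ (mul_ne_zero l.ne_zero ((map_ne_zero σ).mpr l.ne_zero))])
    map_mul' := fun g g' => ext_coord (by rw [bc_el, bc_mul, bc_mul, bc_el, bc_el, map_add, mul_add]) (by
      rw [cc_el, cc_mul, cc_mul, cc_el, cc_el, bc_el, bc_el, map_add, map_add, map_mul, map_mul σ, hcomm]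
      ring) }

theorem bAct_slAut (hcomm : ∀ (τ : F ≃+* F) (x : F), σ (τ x) = τ (σ x)) (l : Fˣ) (τ : F ≃+* F) (b : F) :
    bAct (hσ := hσ) hθ (slAut hcomm l τ) b = (l : F) * τ b := by
  show bc (slAut hcomm l τ (sec hθ b) : sylU 3 hσ) = _
  exact (bc_el _ _ _).trans (by rw [bc_sec])

/-- Every automorphism acts semilinearly. -/
theorem exists_semilinear (α : MulAut (sylU 3 hσ)) :
    ∃ (l : Fˣ) (τ : F ≃+* F), ∀ b, bAct hθ α b = (l : F) * τ b := by
  classical
  set l := bAct hθ α 1 with hl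
  have hl0 : l ≠ 0 := fun h => one_ne_zero ((bAct hθ α).injective (h.trans (bAct_zero hθ α).symm))
  set g : F → F := fun b => l⁻¹ * bAct hθ α b with hg
  have gadd : ∀ a b, g (a + b) = g a + g b := fun a b => by simp only [hg, bAct_add, mul_add]
  have ginj : Function.Injective g := fun a b h => (bAct hθ α).injective (mul_left_cancel₀ (inv_ne_zero hl0) h)
  have g1 : g 1 = 1 := inv_mul_cancel₀ hl0
  have g0 : g 0 = 0 := by simp only [hg, bAct_zero, mul_zero]
  let nm : F → fixedField σ := fun y => ⟨y * σ y, mem_fixedField.mpr (hσ.norm_mem y)⟩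
  let tr : F → fixedField σ := fun y => ⟨y + σ y, mem_fixedField.mpr (hσ.trace_mem y)⟩
  set h : fixedField σ → F := fun f => (l * σ l)⁻¹ * zAct α f with hh
  have hN : ∀ y, g y * σ (g y) = h (nm y) := fun y => by
    simp only [hg, hh, map_mul, map_inv₀, ← norm_bAct hθ α y (nm y) rfl, mul_inv]
    ring
  have hadd : ∀ f f', h (f + f') = h f + h f' := fun f f' => by simp only [hh, zAct_add, mul_add]
  have h0 : h 0 = 0 := by
    have := hadd 0 0
    rw [add_zero, left_eq_add] at this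
    exact this
  -- polarisation
  have hT : ∀ x y (f : fixedField σ), (f : F) = x * σ y + y * σ x → g x * σ (g y) + g y * σ (g x) = h f := by
    intro x y f hf
    have e : nm (x + y) = nm x + nm y + f := Subtype.ext (by
      show (x + y) * σ (x + y) = x * σ x + y * σ y + (f : F)
      rw [hf, map_add]; ring)
    have h1 := hN (x + y)
    rw [gadd, map_add, e, hadd, hadd, ← hN x, ← hN y] at h1
    linear_combination h1
  have gfix : ∀ d, σ d = d → σ (g d) = g d := fun d hd => by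
    have h1 := hT 1 d 0 (by rw [Subfield.coe_zero, map_one, hd]; linear_combination -d * two_zero (F := F))
    rw [g1, h0, map_one, one_mul, mul_one] at h1
    exact CharTwo.add_eq_zero.mp h1
  have hθ1 : g θ + σ (g θ) = h 1 := by
    have h1 := hT 1 θ 1 (by rw [Subfield.coe_one, map_one, one_mul, mul_one]; linear_combination -hθ)
    rw [g1, map_one, one_mul, mul_one] at h1
    linear_combination h1
  have hone : h 1 = 1 := by
    have h1 := hN 1
    rw [g1, map_one, one_mul, show nm 1 = 1 from Subtype.ext (by show (1 : F) * σ 1 = 1; rw [map_one, one_mul])] at h1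
    exact h1.symm
  have hd : ∀ d : fixedField σ, g d = h d := fun d => by
    have hdf : σ (d : F) = d := mem_fixedField.mp d.2
    have h1 := hT d θ d (by rw [hdf]; linear_combination -(d : F) * hθ)
    rw [gfix d hdf] at h1
    have h2 : g d * (g θ + σ (g θ)) = h d := by linear_combination h1
    rwa [hθ1, hone, mul_one] at h2
  have hcθ : ∀ c : fixedField σ, g ((c : F) * θ) = h c * g θ := fun c => by
    have hcf : σ (c : F) = c := mem_fixedField.mp c.2
    have hgθ : g θ ≠ 0 := fun e => by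
      have := ginj (e.trans g0.symm)
      rw [this, map_zero, add_zero] at hθ
      exact zero_ne_one hθ
    set r := g ((c : F) * θ) / g θ with hr
    have hgr : g ((c : F) * θ) = r * g θ := by rw [hr, div_mul_cancel₀ _ hgθ]
    have h1 := hT θ ((c : F) * θ) 0 (by
      rw [Subfield.coe_zero, map_mul, hcf]; linear_combination -((c : F) * θ * σ θ) * two_zero (F := F))
    rw [h0, hgr, map_mul] at h1
    have hrf : σ r = r := by
      have h3 : (σ r + r) * (g θ * σ (g θ)) = 0 := by linear_combination h1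
      exact CharTwo.add_eq_zero.mp
        ((mul_eq_zero.mp h3).resolve_right (mul_ne_zero hgθ ((map_ne_zero σ).mpr hgθ)))
    have h2 := hT 1 ((c : F) * θ) c (by rw [map_one, map_mul, hcf]; linear_combination -(c : F) * hθ)
    rw [g1, map_one, hgr, map_mul, hrf, one_mul, mul_one] at h2
    have h4 : r * (g θ + σ (g θ)) = h c := by linear_combination h2
    rw [hθ1, hone, mul_one] at h4
    rw [hgr, h4]
  have hmul : ∀ c d : fixedField σ, h (c * d) = h c * h d := fun c d => by
    have hcf : σ (c : F) = c := mem_fixedField.mp c.2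
    have hdf : σ (d : F) = d := mem_fixedField.mp d.2
    have h1 := hT d ((c : F) * θ) (c * d) (by
      rw [map_mul, hcf, hdf, Subfield.coe_mul]; linear_combination -((c : F) * d) * hθ)
    rw [gfix d hdf, hcθ, map_mul, hd d, show σ (h c) = h c by rw [← hd c]; exact gfix c hcf] at h1
    have h2 : h c * h d * (g θ + σ (g θ)) = h (c * d) := by linear_combination h1
    rwa [hθ1, hone, mul_one, eq_comm] at h2
  have dec : ∀ y : F, ∃ a c : fixedField σ, y = a + (c : F) * θ := fun y => by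
    have hm : σ (y + (y + σ y) * θ) = y + (y + σ y) * θ := by
      rw [map_add, map_mul, hσ.trace_mem]
      linear_combination (y + σ y) * hθ - (y + (y + σ y) * θ) * two_zero (F := F) + (y + σ y) * two_zero (F := F)
    refine ⟨⟨_, mem_fixedField.mpr hm⟩, tr y, ?_⟩
    show y = y + (y + σ y) * θ + (y + σ y) * θ
    linear_combination -((y + σ y) * θ) * two_zero (F := F)
  have gform : ∀ a c : fixedField σ, g ((a : F) + (c : F) * θ) = h a + h c * g θ := fun a c => by
    rw [gadd, hd, hcθ]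
  have hsq : g θ * g θ = g θ + h (nm θ) := by
    have h1 := hN θ
    have h2 : g θ + σ (g θ) = 1 := hθ1.trans hone
    linear_combination g θ * h2 - h1 - (h (nm θ)) * two_zero (F := F)
  have gmul : ∀ x y, g (x * y) = g x * g y := fun x y => by
    obtain ⟨a, b, rfl⟩ := dec x
    obtain ⟨c, d, rfl⟩ := dec y
    have hθsq : θ * θ = θ + (nm θ : F) := by
      show θ * θ = θ + θ * σ θ
      linear_combination θ * hθ - (θ * σ θ) * two_zero (F := F)
    have e : ((a : F) + b * θ) * ((c : F) + d * θ) =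
        ((a * c + b * d * nm θ : fixedField σ) : F) + ((a * d + b * c + b * d : fixedField σ) : F) * θ := by
      simp only [Subfield.coe_add, Subfield.coe_mul]
      linear_combination ((b : F) * d) * hθsq
    rw [e, gform, gform, gform]
    simp only [hadd, hmul]
    linear_combination -(h b * h d) * hsq
  refine ⟨Units.mk0 l hl0, RingEquiv.ofBijective
    ({ toFun := g, map_one' := g1, map_mul' := gmul, map_zero' := g0, map_add' := gadd } : F →+* F)
    (Finite.injective_iff_bijective.mp ginj), fun b => ?_⟩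
  show bAct hθ α b = l * (l⁻¹ * bAct hθ α b)
  rw [mul_inv_cancel_left₀ hl0]

theorem card_range (hcomm : ∀ (τ : F ≃+* F) (x : F), σ (τ x) = τ (σ x)) :
    Nat.card (bAct (hσ := hσ) hθ).range = Nat.card Fˣ * Nat.card (F ≃+* F) := by
  rw [← Nat.card_prod]
  let Ψ : Fˣ × (F ≃+* F) → (bAct (hσ := hσ) hθ).range := fun x => ⟨bAct hθ (slAut hcomm x.1 x.2), ⟨_, rfl⟩⟩
  refine (Nat.card_eq_of_bijective Ψ ⟨fun x y h => ?_, ?_⟩).symm
  · have h1 : ∀ b, (x.1 : F) * x.2 b = (y.1 : F) * y.2 b := fun b => by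
      rw [← bAct_slAut hθ hcomm, ← bAct_slAut hθ hcomm]
      exact Equiv.congr_fun (congrArg Subtype.val h) b
    have h2 := h1 1
    rw [map_one, map_one, mul_one, mul_one] at h2
    refine Prod.ext (Units.ext h2) (RingEquiv.ext fun b => ?_)
    have h3 := h1 b
    rw [h2] at h3
    exact mul_left_cancel₀ y.1.ne_zero h3
  · rintro ⟨_, α, rfl⟩
    obtain ⟨l, τ, h⟩ := exists_semilinear hθ α
    exact ⟨(l, τ), Subtype.ext (Equiv.ext fun b => (bAct_slAut hθ hcomm l τ b).trans (h b).symm)⟩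

theorem pCore_eq_ker (hcomm : ∀ (τ : F ≃+* F) (x : F), σ (τ x) = τ (σ x)) :
    Cfsg.pCore 2 (MulAut (sylU 3 hσ)) = (bAct hθ).ker := by
  haveI : Fact (Nat.Prime 2) := ⟨Nat.prime_two⟩
  have hK : IsPGroup 2 (bAct (hσ := hσ) hθ).ker := fun α =>
    ⟨1, Subtype.ext (by rw [pow_one, pow_two]; exact (ker_comm hθ α.2 α.2).2)⟩
  refine le_antisymm (fun α hα => ?_) (le_sSup ⟨inferInstance, hK⟩)
  have hP := Cfsg.Lib.Components.isPGroup_pCore (G := MulAut (sylU 3 hσ)) 2
  have hN : (Cfsg.pCore 2 (MulAut (sylU 3 hσ))).Normal := inferInstance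
  have htwo : ∀ β ∈ Cfsg.pCore 2 (MulAut (sylU 3 hσ)), ∀ v : F, (∀ b, bAct hθ β b = v * b) → v = 1 := by
    intro β hβ v hv
    obtain ⟨k, hk⟩ := hP ⟨β, hβ⟩
    have hk' : β ^ (2 ^ k) = 1 := congrArg Subtype.val hk
    have hpow : ∀ j b, bAct hθ (β ^ j) b = v ^ j * b := by
      intro j
      induction j with
      | zero => intro b; simp
      | succ j ih => intro b; rw [pow_succ', map_mul, Equiv.Perm.mul_apply, hv, ih, pow_succ', mul_assoc]
    have h1 := hpow (2 ^ k) 1
    simp only [hk', map_one, Equiv.Perm.one_apply, mul_one] at h1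
    refine (iterateFrobenius_inj F 2 k) ?_
    rw [iterateFrobenius_def, iterateFrobenius_def, one_pow, ← h1]
  obtain ⟨l, τ, hl⟩ := exists_semilinear hθ α
  have hτ : ∀ μ : Fˣ, τ (μ : F) = μ := by
    intro μ
    set T := slAut (hσ := hσ) hcomm μ (RingEquiv.refl F)
    have hmem : α * (T * α⁻¹ * T⁻¹) ∈ Cfsg.pCore 2 (MulAut (sylU 3 hσ)) :=
      mul_mem hα (hN.conj_mem _ (inv_mem hα) T)
    have hT : ∀ b, bAct hθ T b = (μ : F) * b := fun b => bAct_slAut hθ hcomm μ _ b
    have hTi : ∀ b, bAct hθ T⁻¹ b = (μ : F)⁻¹ * b := fun b => by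
      apply (bAct hθ T).injective
      rw [← Equiv.Perm.mul_apply, ← map_mul, mul_inv_cancel, map_one, Equiv.Perm.one_apply, hT,
        mul_inv_cancel_left₀ μ.ne_zero]
    have hai : ∀ b, (l : F) * τ (bAct hθ α⁻¹ b) = b := fun b => by
      rw [← hl, ← Equiv.Perm.mul_apply, ← map_mul, mul_inv_cancel, map_one, Equiv.Perm.one_apply]
    have h := htwo _ hmem (τ (μ : F) * (μ : F)⁻¹) fun b => by
      rw [map_mul, map_mul, map_mul, Equiv.Perm.mul_apply, Equiv.Perm.mul_apply, Equiv.Perm.mul_apply, hTi, hT, hl,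
        map_mul]
      linear_combination (τ (μ : F)) * hai ((μ : F)⁻¹ * b)
    rwa [mul_inv_eq_one₀ μ.ne_zero] at h
  have hτ1 : ∀ b, τ b = b := fun b => by
    by_cases hb : b = 0
    · rw [hb, map_zero]
    · exact hτ (Units.mk0 b hb)
  have hl1 : (l : F) = 1 := htwo α hα _ fun b => by rw [hl, hτ1]
  rw [MonoidHom.mem_ker]
  refine Equiv.ext fun b => ?_
  rw [hl, hτ1, hl1, one_mul]
  rfl

end

end Cfsg.Lib.SuzukiTwo.Unitary

namespace Cfsg.Lib.SuzukiTwo

open Cfsg.Lib.Classical Cfsg.Lib.Fusion.PSU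

theorem card_ringAut_eq {F : Type*} [Field F] [Finite F] {m : ℕ} (hF : Nat.card F = 2 ^ m) [CharP F 2] :
    Nat.card (F ≃+* F) = m := by
  haveI : Fact (Nat.Prime 2) := ⟨Nat.prime_two⟩
  letI := ZMod.algebra F 2
  have e : (F ≃+* F) ≃ (F ≃ₐ[ZMod 2] F) :=
    { toFun := fun f => AlgEquiv.ofRingEquiv (f := f) (fun x =>
        RingHom.congr_fun (RingHom.ext_zmod ((f : F →+* F).comp (algebraMap (ZMod 2) F)) (algebraMap (ZMod 2) F)) x)
      invFun := fun f => f.toRingEquiv
      left_inv := fun f => RingEquiv.ext fun _ => rfl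
      right_inv := fun f => AlgEquiv.ext fun _ => rfl }
  rw [Nat.card_congr e, IsGalois.card_aut_eq_finrank]
  have h := Module.natCard_eq_pow_finrank (K := ZMod 2) (V := F)
  rw [hF, Nat.card_zmod] at h
  exact (Nat.pow_right_injective le_rfl h).symm

theorem card_addHom {A B : Type*} [Field A] [Field B] [Finite A] [Finite B] [CharP A 2] [CharP B 2] {a b : ℕ}
    (hA : Nat.card A = 2 ^ a) (hB : Nat.card B = 2 ^ b) : Nat.card (A →+ B) = 2 ^ (a * b) := by
  haveI : Fact (Nat.Prime 2) := ⟨Nat.prime_two⟩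
  letI := ZMod.algebra A 2
  letI := ZMod.algebra B 2
  have e : (A →+ B) ≃ (A →ₗ[ZMod 2] B) :=
    { toFun := fun f => f.toZModLinearMap 2
      invFun := fun f => f.toAddMonoidHom
      left_inv := fun f => rfl
      right_inv := fun f => rfl }
  have ha := Module.natCard_eq_pow_finrank (K := ZMod 2) (V := A)
  have hb := Module.natCard_eq_pow_finrank (K := ZMod 2) (V := B)
  rw [hA, Nat.card_zmod] at ha
  rw [hB, Nat.card_zmod] at hb
  rw [Nat.card_congr e, Module.natCard_eq_pow_finrank (K := ZMod 2), Nat.card_zmod, Module.finrank_linearMap,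
    ← Nat.pow_right_injective le_rfl ha, ← Nat.pow_right_injective le_rfl hb]

theorem isElementaryAbelian_map {P Q : Type*} [Group P] [Group Q] (e : P ≃* Q) {A : Subgroup P}
    (h : Cfsg.IsElementaryAbelian 2 A) : Cfsg.IsElementaryAbelian 2 (A.map e.toMonoidHom) := by
  refine ⟨⟨⟨?_⟩⟩, ?_⟩
  · rintro ⟨_, x, hx, rfl⟩ ⟨_, y, hy, rfl⟩
    refine Subtype.ext ?_
    show e x * e y = e y * e x
    rw [← map_mul, ← map_mul]
    exact congrArg e (congrArg Subtype.val (h.1.is_comm.comm (⟨x, hx⟩ : A) ⟨y, hy⟩))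
  · rintro _ ⟨x, hx, rfl⟩
    show e x ^ 2 = 1
    rw [← map_pow, h.2 x hx, map_one]

theorem map_pCore_equiv {P Q : Type*} [Group P] [Group Q] [Finite P] [Finite Q] (e : P ≃* Q) :
    (Cfsg.pCore 2 P).map e.toMonoidHom = Cfsg.pCore 2 Q := by
  haveI : Fact (Nat.Prime 2) := ⟨Nat.prime_two⟩
  refine le_antisymm (le_sSup ⟨Subgroup.Normal.map inferInstance _ e.surjective,
    (Cfsg.Lib.Components.isPGroup_pCore 2).map _⟩) fun y hy => ?_
  have h := le_sSup (s := {N : Subgroup P | N.Normal ∧ IsPGroup 2 N})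
    (a := (Cfsg.pCore 2 Q).map e.symm.toMonoidHom) ⟨Subgroup.Normal.map inferInstance _ e.symm.surjective,
      (Cfsg.Lib.Components.isPGroup_pCore 2).map _⟩ (Subgroup.mem_map_of_mem _ hy)
  exact ⟨_, h, e.apply_symm_apply y⟩

/-- The automorphism group of a Sylow 2-subgroup of `SU₃(2ⁿ)`. -/
theorem aut_sylow {S : Type*} [Group S] [Finite S] (n : ℕ) (hn : 1 ≤ n) {F : Type*} [Field F] [Fintype F]
    (hF : Fintype.card F = (2 ^ n) ^ 2) (P : Sylow 2 ↥(Cfsg.SU 3 F (2 ^ n)))
    (e : S ≃* ↥(P : Subgroup ↥(Cfsg.SU 3 F (2 ^ n)))) :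
    Cfsg.IsElementaryAbelian 2 (Cfsg.pCore 2 (MulAut S)) ∧ Nat.card ↥(Cfsg.pCore 2 (MulAut S)) = 2 ^ (2 * n ^ 2) ∧
      Nat.card (MulAut S) = 2 ^ (2 * n ^ 2) * (2 * n * ((2 ^ n) ^ 2 - 1)) := by
  classical
  haveI : Fact (Nat.Prime 2) := ⟨Nat.prime_two⟩
  haveI : CharP F 2 := by
    refine CharTwo.of_one_ne_zero_of_two_eq_zero one_ne_zero ?_
    have h0 : ((Fintype.card F : ℕ) : F) = 0 := FiniteField.cast_card_eq_zero F
    rw [hF, ← pow_mul, Nat.cast_pow, Nat.cast_ofNat] at h0
    exact (pow_eq_zero_iff (by omega)).mp h0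
  set hσ := powConj_isConj hF
  have hfix : Nat.card (fixedField (powConj hF)) = 2 ^ n := by
    have h1 := hσ.card_eq_sq
    rw [Nat.card_eq_fintype_card (α := F), hF] at h1
    exact (Nat.pow_left_injective (by norm_num) h1).symm
  obtain ⟨E⟩ := exists_equiv hF 3
  obtain ⟨Q, hQ⟩ := exists_sylow (hσ := hσ) (n := 3) 2
  let f : sylU 3 hσ ≃* S :=
    ((MulEquiv.subgroupCongr hQ.symm).trans ((E.subgroupMap (Q : Subgroup (antiSU 3 hσ))).trans
      ((MulEquiv.subgroupCongr (Sylow.coe_mapSurjective (f := E.toMonoidHom) E.surjective Q).symm).trans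
        (Sylow.equiv (Q.mapSurjective (f := E.toMonoidHom) E.surjective) P)))).trans e.symm
  obtain ⟨θ, hθ⟩ := hσ.exists_trace_one
  have hcomm : ∀ (τ : F ≃+* F) (x : F), powConj hF (τ x) = τ (powConj hF x) := fun τ x => by
    rw [powConj_apply, powConj_apply, map_pow]
  have hker : Nat.card (Unitary.bAct (hσ := hσ) hθ).ker = 2 ^ (2 * n ^ 2) := by
    haveI : CharP (fixedField (powConj hF)) 2 := RingHom.charP (fixedField (powConj hF)).subtype Subtype.val_injective 2
    rw [Unitary.card_ker hθ, card_addHom (a := n * 2) (b := n) (by rw [Nat.card_eq_fintype_card, hF, ← pow_mul]) hfix]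
    congr 1
    ring
  have hK : Cfsg.IsElementaryAbelian 2 (Cfsg.pCore 2 (MulAut (sylU 3 hσ))) := by
    rw [Unitary.pCore_eq_ker hθ hcomm]
    exact ⟨⟨⟨fun a b => Subtype.ext (Unitary.ker_comm hθ a.2 b.2).1⟩⟩,
      fun a ha => by rw [pow_two]; exact (Unitary.ker_comm hθ ha ha).2⟩
  have hmap : (Cfsg.pCore 2 (MulAut (sylU 3 hσ))).map (MulAut.congr f).toMonoidHom = Cfsg.pCore 2 (MulAut S) :=
    map_pCore_equiv (MulAut.congr f)
  refine ⟨hmap ▸ isElementaryAbelian_map (MulAut.congr f) hK, ?_, ?_⟩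
  · rw [← hmap, ← Nat.card_congr ((Cfsg.pCore 2 (MulAut (sylU 3 hσ))).equivMapOfInjective _
      (MulAut.congr f).injective).toEquiv, Unitary.pCore_eq_ker hθ hcomm, hker]
  · rw [← Nat.card_congr (MulAut.congr f).toEquiv, ← Subgroup.card_mul_index (Unitary.bAct (hσ := hσ) hθ).ker,
      Subgroup.index_ker, hker, Unitary.card_range hθ hcomm, Nat.card_units,
      card_ringAut_eq (m := n * 2) (by rw [Nat.card_eq_fintype_card, hF, ← pow_mul]), Nat.card_eq_fintype_card, hF]
    ring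

end Cfsg.Lib.SuzukiTwo
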