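import Cfsg.Agent.SuzukiTwo.Center
import Cfsg.Prelude.Def_LieRecognition

/-!
Suzuki 2-groups satisfy the hypotheses of the structure theory.
-/

set_option autoImplicit false
set_option linter.style.haveILetI false

namespace Cfsg.Lib.SuzukiTwo

universe u

theorem exists_involTrans {P : Type u} [Group P] (hP : Cfsg.IsSuzukiTwoGroup P) :
    Finite P ∧ IsPGroup 2 P ∧ (∃ x y : P, x * y ≠ y * x) ∧
      (∃ x y : P, x ≠ y ∧ x ≠ 1 ∧ x * x = 1 ∧ y ≠ 1 ∧ y * y = 1) ∧
      ∃ (K : Type u) (_ : CommGroup K) (ρ : K →* MulAut P), InvolTrans ρ := by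
  obtain ⟨hfin, h2, hnab, htwo, K, hcyc, hreg⟩ := hP
  refine ⟨hfin, h2, hnab, htwo, ?_⟩
  letI : CommGroup K := @IsCyclic.commGroup K _ hcyc
  refine ⟨K, inferInstance, K.subtype, fun x hx => ?_, fun x y hx hx2 hy hy2 => ?_⟩
  · by_cases hx1 : x = 1
    · rw [hx1]
      exact one_mem _
    haveI : Nontrivial P := ⟨⟨x, 1, hx1⟩⟩
    haveI := h2.center_nontrivial
    obtain ⟨⟨c, hc⟩, hc1⟩ := exists_ne (1 : Subgroup.center P)
    obtain ⟨i, hi, hi2⟩ := exists_involution h2 (fun e => hc1 (Subtype.ext e))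
    obtain ⟨k, hk, -⟩ := hreg _ x hi (by rw [← pow_two, ← pow_mul, ← pow_succ]; exact hi2) hx1 hx
    rw [← hk]
    exact center_invariant K.subtype k (pow_mem hc _)
  · obtain ⟨k, hk, -⟩ := hreg x y hx hx2 hy hy2
    exact ⟨k, hk⟩

/-- The involutions of a Suzuki 2-group are the nontrivial central elements. -/
theorem involution_iff {P : Type u} [Group P] (hP : Cfsg.IsSuzukiTwoGroup P) :
    (∀ x : P, x * x = 1 ↔ x ∈ Subgroup.center P) := by
  obtain ⟨hfin, h2, hnab, -, K, iK, ρ, h⟩ := exists_involTrans hP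
  exact fun x => ⟨h.central x, fun hx => center_sq_eq_one h2 h hnab x hx⟩

end Cfsg.Lib.SuzukiTwo
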