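import Cfsg.Agent.Fusion.PSU.Transfer
import Cfsg.Agent.Fusion.PSU.Sylow
import Cfsg.Prelude.Def_LieRecognition

/-!
The Sylow 2-subgroups of `PSU₃(2ⁿ)` are Suzuki 2-groups.
-/

set_option autoImplicit false
set_option linter.style.haveILetI false
set_option linter.unusedSectionVars false

namespace Cfsg.Lib.SuzukiTwo.Unitary

open Matrix Cfsg.Lib.Classical Cfsg.Lib.Fusion.PSU Cfsg.Lib.Known.AutPSLn

variable {F : Type*} [Field F] [Fintype F] [CharP F 2] {σ : F →+* F} {hσ : IsConj σ}

theorem mat_eq {g : antiSU 3 hσ} (hg : g ∈ sylU 3 hσ) :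
    mat g = !![1, mat g 0 1, mat g 0 2; 0, 1, -σ (mat g 0 1); 0, 0, 1] ∧
      mat g 0 2 + σ (mat g 0 2) + mat g 0 1 * σ (mat g 0 1) = 0 := by
  have hu : ∀ i j : Fin 3, j ≤ i → mat g i j = if i = j then 1 else 0 := fun i j hij => mem_sylU.mp hg i j hij
  have h00 : mat g 0 0 = 1 := by rw [hu 0 0 le_rfl, if_pos rfl]
  have h11 : mat g 1 1 = 1 := by rw [hu 1 1 le_rfl, if_pos rfl]
  have h22 : mat g 2 2 = 1 := by rw [hu 2 2 le_rfl, if_pos rfl]
  have h10 : mat g 1 0 = 0 := by rw [hu 1 0 (by decide), if_neg (by decide)]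
  have h20 : mat g 2 0 = 0 := by rw [hu 2 0 (by decide), if_neg (by decide)]
  have h21 : mat g 2 1 = 0 := by rw [hu 2 1 (by decide), if_neg (by decide)]
  have e := adj_mul_self g
  have e01 := congrFun (congrFun e 0) 1
  have e02 := congrFun (congrFun e 0) 2
  simp [Matrix.mul_apply, Fin.sum_univ_three, adj_apply, Fin.rev, h00, h11, h22, h21, Matrix.one_apply] at e01 e02
  have h12 : mat g 1 2 = -σ (mat g 0 1) := by
    have := congrArg σ e01
    simp only [map_add, map_zero, hσ.invol] at this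
    linear_combination this
  refine ⟨?_, ?_⟩
  · ext i j
    fin_cases i <;> fin_cases j <;> simp [h00, h11, h22, h10, h20, h21, h12]
  · rw [h12, map_neg, hσ.invol] at e02
    linear_combination e02

theorem mid3_mem (b c : F) (h : c + σ c + b * σ b = 0) : mid3 (hσ := hσ) b c h ∈ sylU 3 hσ := by
  rw [mem_sylU]
  intro i j hij
  simp only [mid3, mat_mk]
  fin_cases i <;> fin_cases j <;> simp_all

/-- The middle coordinate. -/
def bc (g : sylU 3 hσ) : F := mat (g : antiSU 3 hσ) 0 1

/-- The corner coordinate. -/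
def cc (g : sylU 3 hσ) : F := mat (g : antiSU 3 hσ) 0 2

theorem rel (g : sylU 3 hσ) : cc g + σ (cc g) + bc g * σ (bc g) = 0 := (mat_eq g.2).2

/-- The element with given coordinates. -/
noncomputable def el (b c : F) (h : c + σ c + b * σ b = 0) : sylU 3 hσ := ⟨mid3 b c h, mid3_mem b c h⟩

theorem bc_el (b c : F) (h : c + σ c + b * σ b = 0) : bc (el (hσ := hσ) b c h) = b := rfl

theorem cc_el (b c : F) (h : c + σ c + b * σ b = 0) : cc (el (hσ := hσ) b c h) = c := rfl

theorem ext_coord {g g' : sylU 3 hσ} (hb : bc g = bc g') (hc : cc g = cc g') : g = g' := by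
  refine Subtype.ext (mat_injective ?_)
  rw [(mat_eq g.2).1, (mat_eq g'.2).1]
  simp only [bc, cc] at hb hc
  rw [hb, hc]

theorem bc_mul (g g' : sylU 3 hσ) : bc (g * g') = bc g + bc g' := by
  show (mat (g : antiSU 3 hσ) * mat (g' : antiSU 3 hσ)) 0 1 = _
  rw [(mat_eq g.2).1, (mat_eq g'.2).1]
  simp [Matrix.mul_apply, Fin.sum_univ_three, bc]
  ring

theorem cc_mul (g g' : sylU 3 hσ) : cc (g * g') = cc g + cc g' + bc g * σ (bc g') := by
  show (mat (g : antiSU 3 hσ) * mat (g' : antiSU 3 hσ)) 0 2 = _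
  rw [(mat_eq g.2).1, (mat_eq g'.2).1]
  simp [Matrix.mul_apply, Fin.sum_univ_three, bc, cc]
  linear_combination (-(mat (g : antiSU 3 hσ) 0 1 * σ (mat (g' : antiSU 3 hσ) 0 1))) * (CharTwo.two_eq_zero (R := F))

theorem bc_one : bc (1 : sylU 3 hσ) = 0 := by simp [bc, mat_one]

theorem cc_one : cc (1 : sylU 3 hσ) = 0 := by simp [cc, mat_one]

theorem sq_eq_one_iff (g : sylU 3 hσ) : g * g = 1 ↔ bc g = 0 := by
  constructor
  · intro h
    have h1 := congrArg cc h
    rw [cc_mul, cc_one, CharTwo.add_self_eq_zero, zero_add, mul_eq_zero, hσ.eq_zero, or_self] at h1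
    exact h1
  · intro h
    refine ext_coord ?_ ?_
    · rw [bc_mul, bc_one, CharTwo.add_self_eq_zero]
    · rw [cc_mul, cc_one, h, CharTwo.add_self_eq_zero, zero_mul, add_zero]

theorem center_iff (g : sylU 3 hσ) : g ∈ Subgroup.center (sylU 3 hσ) ↔ bc g = 0 := by
  obtain ⟨θ, hθ⟩ := hσ.exists_trace_one
  rw [Subgroup.mem_center_iff]
  constructor
  · intro h
    have key : ∀ b, bc g * σ b = b * σ (bc g) := fun b => by
      have hr : θ * (b * σ b) + σ (θ * (b * σ b)) + b * σ b = 0 := by
        rw [map_mul, hσ.norm_mem]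
        linear_combination (b * σ b) * hθ + (b * σ b) * (CharTwo.two_eq_zero (R := F))
      have h1 := congrArg cc (h (el b _ hr))
      rw [cc_mul, cc_mul, bc_el, cc_el] at h1
      linear_combination -h1
    obtain ⟨a, ha⟩ := hσ.ne_id
    by_contra hb
    have h1 := key 1
    rw [map_one, mul_one, one_mul] at h1
    have h2 := key a
    rw [← h1, mul_comm a] at h2
    exact ha (mul_left_cancel₀ hb h2)
  · intro h y
    refine ext_coord ?_ ?_
    · rw [bc_mul, bc_mul, add_comm]
    · rw [cc_mul, cc_mul, h, map_zero, mul_zero, zero_mul, add_comm (cc y)]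

theorem mem_fixed {x : F} : x ∈ fixedField σ ↔ x + σ x = 0 := by
  rw [mem_fixedField, CharTwo.add_eq_zero, eq_comm]

/-- Coordinates. -/
noncomputable def coordEquiv (θ : F) (hθ : θ + σ θ = 1) : sylU 3 hσ ≃ F × fixedField σ where
  toFun g := (bc g, ⟨cc g + θ * (bc g * σ (bc g)), mem_fixed.mpr (by
    rw [map_add, map_mul σ θ, hσ.norm_mem]
    linear_combination rel g + (bc g * σ (bc g)) * hθ)⟩)
  invFun x := el x.1 ((x.2 : F) + θ * (x.1 * σ x.1)) (by
    rw [map_add, map_mul σ θ, hσ.norm_mem]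
    linear_combination mem_fixed.mp x.2.2 + (x.1 * σ x.1) * hθ + (x.1 * σ x.1) * (CharTwo.two_eq_zero (R := F)))
  left_inv g := ext_coord (bc_el _ _ _) (by
    rw [cc_el]
    linear_combination (θ * (bc g * σ (bc g))) * (CharTwo.two_eq_zero (R := F)))
  right_inv x := by
    refine Prod.ext ?_ (Subtype.ext ?_)
    · exact rfl
    · show (x.2 : F) + θ * (x.1 * σ x.1) + θ * (x.1 * σ x.1) = x.2
      rw [CharTwo.add_cancel_right]

theorem card_sylU : Nat.card (sylU 3 hσ) = Nat.card (fixedField σ) ^ 3 := by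
  obtain ⟨θ, hθ⟩ := hσ.exists_trace_one
  rw [Nat.card_congr (coordEquiv θ hθ), Nat.card_prod, hσ.card_eq_sq]
  ring

theorem card_center : Nat.card (Subgroup.center (sylU 3 hσ)) = Nat.card (fixedField σ) :=
  Nat.card_congr
    { toFun := fun g => ⟨cc g.1, mem_fixed.mpr (by
        have := rel g.1
        rwa [(center_iff g.1).mp g.2, zero_mul, add_zero] at this)⟩
      invFun := fun x => ⟨el 0 x.1 (by rw [zero_mul, add_zero]; exact mem_fixed.mp x.2),
        (center_iff _).mpr (bc_el _ _ _)⟩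
      left_inv := fun g => Subtype.ext (ext_coord ((bc_el _ _ _).trans ((center_iff g.1).mp g.2).symm) (cc_el _ _ _))
      right_inv := fun x => Subtype.ext (cc_el (hσ := hσ) 0 x.1 (by rw [zero_mul, add_zero]; exact mem_fixed.mp x.2)) }

/-- Scaling by an element of the fixed field. -/
noncomputable def scale (l : fixedField σ) (g : sylU 3 hσ) : sylU 3 hσ :=
  el ((l : F) * bc g) ((l : F) * (l : F) * cc g) (by
    have hl : σ (l : F) = l := mem_fixedField.mp l.2
    rw [map_mul, map_mul, map_mul, hl]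
    linear_combination ((l : F) * (l : F)) * rel g)

theorem scale_mul (l : fixedField σ) (g g' : sylU 3 hσ) : scale l (g * g') = scale l g * scale l g' := by
  have hl : σ (l : F) = l := mem_fixedField.mp l.2
  refine ext_coord ?_ ?_
  · rw [bc_mul, scale, scale, scale, bc_el, bc_el, bc_el, bc_mul, mul_add]
  · rw [cc_mul, scale, scale, scale, cc_el, cc_el, cc_el, bc_el, bc_el, cc_mul, map_mul, hl]
    ring

theorem scale_scale (l m : fixedField σ) (g : sylU 3 hσ) : scale l (scale m g) = scale (l * m) g := by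
  refine ext_coord ?_ ?_
  · rw [scale, scale, scale, bc_el, bc_el, bc_el, Subfield.coe_mul, mul_assoc]
  · rw [scale, scale, scale, cc_el, cc_el, cc_el, Subfield.coe_mul]
    ring

theorem scale_one (g : sylU 3 hσ) : scale 1 g = g := by
  refine ext_coord ?_ ?_
  · rw [scale, bc_el, Subfield.coe_one, one_mul]
  · rw [scale, cc_el, Subfield.coe_one, one_mul, one_mul]

/-- The torus. -/
noncomputable def torus : (fixedField σ)ˣ →* MulAut (sylU 3 hσ) where
  toFun u :=
    { toFun := scale (u : fixedField σ)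
      invFun := scale ((u⁻¹ : (fixedField σ)ˣ) : fixedField σ)
      left_inv := fun g => by rw [scale_scale, ← Units.val_mul, inv_mul_cancel, Units.val_one, scale_one]
      right_inv := fun g => by rw [scale_scale, ← Units.val_mul, mul_inv_cancel, Units.val_one, scale_one]
      map_mul' := scale_mul _ }
  map_one' := MulEquiv.ext fun g => scale_one g
  map_mul' u v := MulEquiv.ext fun g => (scale_scale _ _ g).symm

theorem isSuzuki [Fact (Nat.Prime 2)] (h4 : 4 ≤ Nat.card (fixedField σ)) :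
    Cfsg.IsSuzukiTwoGroup (sylU 3 hσ) := by
  classical
  obtain ⟨θ, hθ⟩ := hσ.exists_trace_one
  haveI : Fintype (fixedField σ) := Fintype.ofFinite _
  refine ⟨inferInstance, isPGroup_sylU 2, ?_, ?_, (torus (hσ := hσ)).range, ?_, ?_⟩
  · have hr : θ + σ θ + (1 : F) * σ 1 = 0 := by
      rw [map_one, mul_one, hθ, CharTwo.add_self_eq_zero]
    by_contra hno
    push Not at hno
    have := (center_iff (el 1 θ hr)).mp (Subgroup.mem_center_iff.mpr fun y => hno y _)
    rw [bc_el] at this
    exact one_ne_zero this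
  · obtain ⟨x, hx0, hx1⟩ : ∃ x : fixedField σ, x ≠ 0 ∧ x ≠ 1 := by
      by_contra hno
      push Not at hno
      have : Fintype.card (fixedField σ) ≤ ({0, 1} : Finset (fixedField σ)).card :=
        Finset.card_le_card fun y _ => by
          by_cases hy : y = 0
          · simp [hy]
          · simp [hno y hy]
      have h2 := Finset.card_le_two (a := (0 : fixedField σ)) (b := 1)
      rw [Nat.card_eq_fintype_card] at h4
      omega
    have hr1 : (1 : F) + σ 1 + 0 * σ 0 = 0 := by
      rw [map_one, CharTwo.add_self_eq_zero, zero_mul, add_zero]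
    have hrx : (x : F) + σ x + 0 * σ 0 = 0 := by rw [zero_mul, add_zero]; exact mem_fixed.mp x.2
    refine ⟨el 0 1 hr1, el 0 x hrx, fun e => hx1 ?_, fun e => ?_, (sq_eq_one_iff _).mpr (bc_el _ _ _),
      fun e => hx0 ?_, (sq_eq_one_iff _).mpr (bc_el _ _ _)⟩
    · have := congrArg cc e
      rw [cc_el, cc_el] at this
      exact Subtype.ext this.symm
    · have := congrArg cc e
      rw [cc_el, cc_one] at this
      exact one_ne_zero this
    · have := congrArg cc e
      rw [cc_el, cc_one] at this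
      exact Subtype.ext this
  · exact isCyclic_of_surjective (torus (hσ := hσ)).rangeRestrict (torus (hσ := hσ)).rangeRestrict_surjective
  · intro x y hx hx2 hy hy2
    have hbx := (sq_eq_one_iff x).mp hx2
    have hby := (sq_eq_one_iff y).mp hy2
    have hcx : cc x ≠ 0 := fun e => hx (ext_coord (hbx.trans bc_one.symm) (e.trans cc_one.symm))
    have hcy : cc y ≠ 0 := fun e => hy (ext_coord (hby.trans bc_one.symm) (e.trans cc_one.symm))
    have hfx : σ (cc x) = cc x := by
      have := rel x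
      rw [hbx, zero_mul, add_zero] at this
      exact (CharTwo.add_eq_zero.mp this).symm
    have hfy : σ (cc y) = cc y := by
      have := rel y
      rw [hby, zero_mul, add_zero] at this
      exact (CharTwo.add_eq_zero.mp this).symm
    obtain ⟨r, hr⟩ := FiniteField.isSquare_of_char_two (ringChar.eq (fixedField σ) 2)
      (⟨cc y / cc x, by rw [mem_fixedField, map_div₀, hfx, hfy]⟩ : fixedField σ)
    have hrF : cc y / cc x = (r : F) * (r : F) := congrArg Subtype.val hr
    have hr0 : r ≠ 0 := by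
      intro e
      rw [e, Subfield.coe_zero, zero_mul, div_eq_zero_iff] at hrF
      exact hrF.elim hcy hcx
    refine ⟨⟨torus (Units.mk0 r hr0), ⟨_, rfl⟩⟩, ?_, ?_⟩
    · show scale r x = y
      refine ext_coord ?_ ?_
      · rw [scale, bc_el, hbx, hby, mul_zero]
      · rw [scale, cc_el, ← hrF, div_mul_cancel₀ _ hcx]
    · rintro ⟨_, u, rfl⟩ hu
      have h1 := congrArg cc (show scale (u : fixedField σ) x = y from hu)
      rw [scale, cc_el] at h1
      refine Subtype.ext (congrArg torus (Units.ext (Subtype.ext ?_)))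
      have h2 : ((u : fixedField σ) : F) * ((u : fixedField σ) : F) = (r : F) * (r : F) := by
        rw [← hrF, eq_div_iff hcx, h1]
      show ((u : fixedField σ) : F) = (r : F)
      have h3 : (((u : fixedField σ) : F) + (r : F)) * (((u : fixedField σ) : F) + (r : F)) = 0 := by
        linear_combination h2 + ((r : F) * ((u : fixedField σ) : F) + (r : F) * (r : F)) * (CharTwo.two_eq_zero (R := F))
      exact CharTwo.add_eq_zero.mp (mul_self_eq_zero.mp h3)

end Cfsg.Lib.SuzukiTwo.Unitary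

namespace Cfsg.Lib.SuzukiTwo

open Cfsg.Lib.Classical Cfsg.Lib.Fusion.PSU

theorem isSuzuki_congr {P P' : Type*} [Group P] [Group P'] (e : P ≃* P') (h : Cfsg.IsSuzukiTwoGroup P) :
    Cfsg.IsSuzukiTwoGroup P' := by
  obtain ⟨hf, h2, ⟨a, b, hab⟩, ⟨x, y, hxy, hx, hx2, hy, hy2⟩, K, hK, hreg⟩ := h
  refine ⟨Finite.of_equiv P e.toEquiv, h2.of_equiv e,
    ⟨e a, e b, fun he => hab (e.injective (by rwa [map_mul, map_mul]))⟩,
    ⟨e x, e y, fun he => hxy (e.injective he), fun he => hx (e.injective (by rwa [map_one])),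
      by rw [← map_mul, hx2, map_one], fun he => hy (e.injective (by rwa [map_one])), by rw [← map_mul, hy2, map_one]⟩,
    K.map (MulAut.congr e).toMonoidHom, ?_, fun u v hu hu2 hv hv2 => ?_⟩
  · exact isCyclic_of_surjective (K.equivMapOfInjective _ (MulAut.congr e).injective).toMonoidHom
      (K.equivMapOfInjective _ (MulAut.congr e).injective).surjective
  · have hu' : e.symm u * e.symm u = 1 := by rw [← map_mul, hu2, map_one]
    have hv' : e.symm v * e.symm v = 1 := by rw [← map_mul, hv2, map_one]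
    obtain ⟨k, hk, huniq⟩ := hreg (e.symm u) (e.symm v) (fun he => hu (by simpa using congrArg e he)) hu'
      (fun he => hv (by simpa using congrArg e he)) hv'
    refine ⟨⟨MulAut.congr e k, ⟨k, k.2, rfl⟩⟩, ?_, ?_⟩
    · show e ((k : MulAut P) (e.symm u)) = v
      rw [hk, e.apply_symm_apply]
    · rintro ⟨_, k', hk', rfl⟩ hku
      have h1 : (k' : MulAut P) (e.symm u) = e.symm v := e.injective (by
        rw [e.apply_symm_apply]
        exact hku)
      exact Subtype.ext (congrArg (MulAut.congr e) (congrArg Subtype.val (huniq ⟨k', hk'⟩ h1)))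

theorem psu_three {F : Type*} [Field F] [Fintype F] {n : ℕ} (hn : 2 ≤ n) (hF : Fintype.card F = (2 ^ n) ^ 2)
    (S : Sylow 2 (Cfsg.PSU 3 F (2 ^ n))) :
    Nat.card S = (2 ^ n) ^ 3 ∧ Nat.card (Subgroup.center (S : Subgroup (Cfsg.PSU 3 F (2 ^ n)))) = 2 ^ n ∧
      Cfsg.IsSuzukiTwoGroup (S : Subgroup (Cfsg.PSU 3 F (2 ^ n))) := by
  classical
  haveI : Fact (Nat.Prime 2) := ⟨Nat.prime_two⟩
  haveI : CharP F 2 := by
    refine CharTwo.of_one_ne_zero_of_two_eq_zero one_ne_zero ?_
    have h0 : ((Fintype.card F : ℕ) : F) = 0 := FiniteField.cast_card_eq_zero F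
    rw [hF, ← pow_mul, Nat.cast_pow, Nat.cast_ofNat] at h0
    exact (pow_eq_zero_iff (by omega)).mp h0
  set hσ := powConj_isConj hF
  have hfix : Nat.card (fixedField (powConj hF)) = 2 ^ n := by
    have h1 := hσ.card_eq_sq
    rw [Nat.card_eq_fintype_card (α := F), hF] at h1
    exact (Nat.pow_left_injective (by norm_num) h1).symm
  obtain ⟨E⟩ := exists_equiv hF 3
  set π : antiSU 3 hσ →* Cfsg.PSU 3 F (2 ^ n) :=
    (QuotientGroup.mk' (Subgroup.center (Cfsg.SU 3 F (2 ^ n)))).comp E.toMonoidHom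
  have hπ : Function.Surjective π := (QuotientGroup.mk'_surjective _).comp E.surjective
  obtain ⟨Q, hQ⟩ := exists_sylow (hσ := hσ) (n := 3) 2
  have hinj : Function.Injective (π.subgroupMap (sylU 3 hσ)) := by
    refine (injective_iff_map_eq_one _).mpr fun g hg => Subtype.ext (E.injective ?_)
    have hz : E g ∈ Subgroup.center (Cfsg.SU 3 F (2 ^ n)) :=
      (QuotientGroup.eq_one_iff _).mp (congrArg Subtype.val hg)
    rw [Subgroup.coe_one, map_one, ← orderOf_eq_one_iff]
    have h1 : (E g) ^ Nat.gcd 3 (2 ^ n + 1) = 1 := by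
      rw [← card_center_SU hF (show 2 ≤ 3 by omega)]
      exact congrArg Subtype.val (pow_card_eq_one' (G := Subgroup.center (Cfsg.SU 3 F (2 ^ n))) (x := ⟨E g, hz⟩))
    have h2 := (orderOf_dvd_of_pow_eq_one h1).trans (Nat.gcd_dvd_left _ _)
    obtain ⟨k, hk⟩ := isPGroup_sylU (hσ := hσ) (n := 3) 2 g
    have h3 : orderOf (E g) ∣ 2 ^ k := orderOf_dvd_of_pow_eq_one (by
      rw [← map_pow, show (g : antiSU 3 hσ) ^ 2 ^ k = 1 from congrArg Subtype.val hk, map_one])
    exact Nat.eq_one_of_dvd_coprimes (Nat.Coprime.pow_left k (by norm_num)) h3 h2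
  let e₁ : sylU 3 hσ ≃* (sylU 3 hσ).map π :=
    MulEquiv.ofBijective (π.subgroupMap (sylU 3 hσ)) ⟨hinj, π.subgroupMap_surjective _⟩
  have hS' : ((Q.mapSurjective hπ : Sylow 2 _) : Subgroup (Cfsg.PSU 3 F (2 ^ n))) = (sylU 3 hσ).map π := by
    rw [Sylow.coe_mapSurjective, hQ]
  let e : sylU 3 hσ ≃* (S : Subgroup (Cfsg.PSU 3 F (2 ^ n))) :=
    (e₁.trans (MulEquiv.subgroupCongr hS'.symm)).trans (Sylow.equiv (Q.mapSurjective hπ) S)
  refine ⟨?_, ?_, isSuzuki_congr e (Unitary.isSuzuki (by
    rw [hfix]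
    calc 4 = 2 ^ 2 := by norm_num
      _ ≤ 2 ^ n := Nat.pow_le_pow_right (by norm_num) hn))⟩
  · show Nat.card (S : Subgroup (Cfsg.PSU 3 F (2 ^ n))) = _
    rw [← Nat.card_congr e.toEquiv, Unitary.card_sylU, hfix]
  · rw [← Nat.card_congr (Subgroup.centerCongr e).toEquiv, Unitary.card_center, hfix]

end Cfsg.Lib.SuzukiTwo
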