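import Cfsg.Agent.SuzukiTwo.ClassTwo

/-!
The order of a Suzuki 2-group.
-/

set_option autoImplicit false
set_option linter.style.haveILetI false

namespace Cfsg.Lib.SuzukiTwo

open scoped commutatorElement

universe u v

theorem pow_dvd_of_dvd_sq {n t : ℕ} (h : 2 ^ (2 * n + 1) ∣ t ^ 2) : 2 ^ (n + 1) ∣ t := by
  by_cases ht : t = 0
  · simp [ht]
  rw [Nat.Prime.pow_dvd_iff_le_factorization Nat.prime_two (pow_ne_zero 2 ht), Nat.factorization_pow,
    Finsupp.smul_apply, smul_eq_mul] at h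
  rw [Nat.Prime.pow_dvd_iff_le_factorization Nat.prime_two ht]
  omega

theorem dvd_of_pow_modEq {n d : ℕ} (hn : 2 ≤ n) (h : 2 ^ d ≡ 1 [MOD 2 ^ n - 1]) : n ∣ d := by
  have h1 : 2 ^ n ≡ 1 [MOD 2 ^ n - 1] :=
    ((Nat.modEq_iff_dvd' Nat.one_le_two_pow).mpr dvd_rfl).symm
  have h2 : 2 ^ d ≡ 2 ^ (d % n) [MOD 2 ^ n - 1] := by
    conv_lhs => rw [← Nat.div_add_mod d n, pow_add, pow_mul]
    simpa using (h1.pow (d / n)).mul_right (2 ^ (d % n))
  have h3 := h2.symm.trans h
  have hlt : d % n < n := Nat.mod_lt d (by omega)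
  have h4 : 2 ^ (d % n) ≤ 2 ^ (n - 1) := Nat.pow_le_pow_right (by norm_num) (by omega)
  have h5 : 2 ^ (n - 1) < 2 ^ n - 1 := by
    obtain ⟨m, rfl⟩ : ∃ m, n = m + 2 := ⟨n - 2, by omega⟩
    simp only [show m + 2 - 1 = m + 1 from rfl, pow_succ]
    have := Nat.one_le_two_pow (n := m)
    omega
  have h6 := h3.eq_of_lt_of_lt (lt_of_le_of_lt h4 h5) (lt_of_le_of_lt Nat.one_le_two_pow h5)
  exact Nat.dvd_of_mod_eq_zero (((Nat.pow_eq_one).mp h6).resolve_left (by norm_num))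

theorem sign_mul : ∀ a b : ZMod 2,
    (if a + b = 0 then (1 : ℤ) else -1) = (if a = 0 then (1 : ℤ) else -1) * (if b = 0 then (1 : ℤ) else -1) := by
  decide

variable {K : Type v} [CommGroup K]

/-- The order of a Suzuki 2-group. -/
theorem card_eq {P : Type u} [Group P] [Finite P] (hP : IsPGroup 2 P) {ρ : K →* MulAut P}
    (h : InvolTrans ρ) (hnab : ∃ x y : P, x * y ≠ y * x)
    (htwo : ∃ x y : P, x ≠ y ∧ x ≠ 1 ∧ x * x = 1 ∧ y ≠ 1 ∧ y * y = 1) :
    Nat.card P = Nat.card (Subgroup.center P) ^ 2 ∨ Nat.card P = Nat.card (Subgroup.center P) ^ 3 := by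
  classical
  set Z := Subgroup.center P with hZdef
  have hZ2 : ∀ z ∈ Z, z * z = 1 := center_sq_eq_one hP h hnab
  have hsq : ∀ x : P, x * x ∈ Z := sq_mem_center hP h hnab htwo
  have hcom : ∀ a b : P, ⁅a, b⁆ ∈ Z := fun a b => by
    rw [comm_eq_squares]
    exact mul_mem (mul_mem (hsq a) (hsq _)) (hsq b⁻¹)
  obtain ⟨t₁, t₂, ht12, ht1, ht1', ht2, ht2'⟩ := htwo
  obtain ⟨F, i1, i2, i3, E, χ, hχ, hEadd, hE0, hEρ, hEsurj, hcardF⟩ := exists_coord h ht1 ht1'
  have hom : omega h = Z := le_antisymm (fun x hx => h.central x hx) fun z hz => hZ2 z hz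
  rw [hom] at hcardF
  have hEZ : ∀ a ∈ Z, ∀ b ∈ Z, E (a * b) = E a + E b := fun a ha b hb => hEadd a b (hZ2 a ha) (hZ2 b hb)
  have hE1 : E 1 = 0 := by
    have := hEadd 1 1 (one_mul 1) (one_mul 1)
    rw [one_mul] at this
    simpa using this
  obtain ⟨n, -, hn⟩ := FiniteField.card F 2
  have hq : Nat.card F = 2 ^ (n : ℕ) := by rw [Nat.card_eq_fintype_card]; exact hn
  have hn2 : 2 ≤ (n : ℕ) := by
    by_contra hlt
    have h1 : (n : ℕ) = 1 := by have := n.pos; omega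
    have e1 : E t₁ ≠ 0 := fun e => ht1 (hE0 _ ht1' e)
    have e2 : E t₂ ≠ 0 := fun e => ht2 (hE0 _ ht2' e)
    have e3 : E t₁ ≠ E t₂ := fun e => by
      have h0 := hE0 (t₁ * t₂) ((omega h).mul_mem ht1' ht2') (by rw [hEadd _ _ ht1' ht2', e, CharTwo.add_self_eq_zero])
      rw [mul_eq_one_iff_eq_inv, inv_eq_of_sq ht2'] at h0
      exact ht12 h0
    have h3 : ({0, E t₁, E t₂} : Finset F).card ≤ Fintype.card F := Finset.card_le_univ _
    rw [Finset.card_eq_three.mpr ⟨0, E t₁, E t₂, e1.symm, e2.symm, e3, rfl⟩, hn, h1] at h3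
    norm_num at h3
  -- the sign character
  haveI : Fact (Nat.Prime 2) := ⟨Nat.prime_two⟩
  letI : Algebra (ZMod 2) F := ZMod.algebra F 2
  obtain ⟨c₀, hc₀⟩ := Algebra.trace_surjective (ZMod 2) F 1
  let s : F → ℤ := fun x => if Algebra.trace (ZMod 2) F x = 0 then 1 else -1
  have hs : ∀ x y, s (x + y) = s x * s y := by
    intro x y
    simp only [s, map_add]
    convert sign_mul (Algebra.trace (ZMod 2) F x) (Algebra.trace (ZMod 2) F y)
  have hs0 : s 0 = 1 := if_pos (map_zero _)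
  have hss : ∀ x, s x * s x = 1 := fun x => by rw [← hs, CharTwo.add_self_eq_zero, hs0]
  have horth : ∀ x : F, x ≠ 0 → ∑ a : F, s (a * x) = 0 := by
    intro x hx
    have h1 : ∑ a : F, s (a * x) = ∑ a : F, s ((a + c₀ / x) * x) :=
      (Fintype.sum_equiv (Equiv.addRight (c₀ / x)) _ _ fun _ => rfl).symm
    have h2 : ∀ a : F, s ((a + c₀ / x) * x) = -s (a * x) := fun a => by
      rw [add_mul, div_mul_cancel₀ _ hx, hs]
      simp only [s, hc₀, one_ne_zero, if_false, mul_neg, mul_one]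
    rw [Finset.sum_congr rfl fun a _ => h2 a, Finset.sum_neg_distrib] at h1
    linarith
  -- the quadratic map on the quotient
  haveI : Fintype (P ⧸ Z) := Fintype.ofFinite _
  let Qb : P ⧸ Z → F := Quotient.lift (fun y => E (y * y)) fun a b hab => by
    have hz : a⁻¹ * b ∈ Z := QuotientGroup.leftRel_apply.mp hab
    show E (a * a) = E (b * b)
    rw [← mul_inv_cancel_left a b, mul_sq (by rw [comm_central hz]; exact one_mem _), comm_central hz, mul_one,
      hZ2 _ hz, mul_one]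
  have hQ : ∀ y : P, Qb (y : P ⧸ Z) = E (y * y) := fun y => rfl
  let β : P ⧸ Z → P ⧸ Z → F := fun u w => Qb (u * w) + Qb u + Qb w
  have hβ : ∀ y z : P, β (y : P ⧸ Z) (z : P ⧸ Z) = E ⁅z, y⁆ := fun y z => by
    show Qb _ + Qb _ + Qb _ = _
    rw [← QuotientGroup.mk_mul, hQ, hQ, hQ, mul_sq (hcom z y), hEZ _ (mul_mem (hsq y) (hsq z)) _ (hcom z y),
      hEZ _ (hsq y) _ (hsq z)]
    linear_combination (E (y * y) + E (z * z)) * (CharTwo.two_eq_zero (R := F))
  have hβadd : ∀ u u' w, β (u * u') w = β u w + β u' w := by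
    intro u u' w
    obtain ⟨y, rfl⟩ := QuotientGroup.mk_surjective u
    obtain ⟨y', rfl⟩ := QuotientGroup.mk_surjective u'
    obtain ⟨z, rfl⟩ := QuotientGroup.mk_surjective w
    rw [← QuotientGroup.mk_mul, hβ, hβ, hβ, comm_mul_right (hcom z y'), hEZ _ (hcom z y) _ (hcom z y')]
  have hQ0 : ∀ u, Qb u = 0 → u = 1 := by
    intro u hu
    obtain ⟨y, rfl⟩ := QuotientGroup.mk_surjective u
    rw [hQ] at hu
    exact (QuotientGroup.eq_one_iff y).mpr (h.central y (hE0 _ (hZ2 _ (hsq y)) hu))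
  have hQ1 : Qb 1 = 0 := by
    have := hQ 1
    rwa [one_mul, hE1] at this
  -- Gauss sums
  let T : F → ℤ := fun a => ∑ u : P ⧸ Z, s (a * Qb u)
  have hTsum : ∑ a : F, T a = 2 ^ (n : ℕ) := by
    simp only [T]
    rw [Finset.sum_comm, Finset.sum_eq_single (1 : P ⧸ Z) (fun u _ hu => horth _ fun e => hu (hQ0 u e))
      (fun e => absurd (Finset.mem_univ _) e)]
    simp only [hQ1, mul_zero, hs0, Finset.sum_const, Finset.card_univ, hn, nsmul_eq_mul, mul_one]
    norm_cast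
  have hTsq : ∀ a : F, (Nat.card (P ⧸ Z) : ℤ) ∣ T a * T a := by
    intro a
    have hsplit : ∀ u v, s (a * Qb u) * s (a * Qb (u * v)) = s (a * Qb v) * s (a * β u v) := fun u v => by
      have e : a * Qb u + a * Qb (u * v) = a * Qb v + a * β u v := by
        show _ = a * Qb v + a * (Qb (u * v) + Qb u + Qb v)
        linear_combination (-(a * Qb v)) * (CharTwo.two_eq_zero (R := F))
      rw [← hs, ← hs, e]
    have h1 : T a * T a = ∑ v : P ⧸ Z, s (a * Qb v) * ∑ u : P ⧸ Z, s (a * β u v) := by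
      show (∑ u : P ⧸ Z, s (a * Qb u)) * (∑ u : P ⧸ Z, s (a * Qb u)) = _
      rw [Finset.sum_mul]
      have h2 : ∀ u : P ⧸ Z, s (a * Qb u) * ∑ w : P ⧸ Z, s (a * Qb w) =
          ∑ v : P ⧸ Z, s (a * Qb v) * s (a * β u v) := fun u => by
        rw [← Fintype.sum_equiv (Equiv.mulLeft u) (fun v => s (a * Qb (u * v))) _ fun _ => rfl, Finset.mul_sum]
        exact Finset.sum_congr rfl fun v _ => hsplit u v
      rw [Finset.sum_congr rfl fun u _ => h2 u, Finset.sum_comm]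
      exact Finset.sum_congr rfl fun v _ => (Finset.mul_sum _ _ _).symm
    rw [h1]
    refine Finset.dvd_sum fun v _ => dvd_mul_of_dvd_right ?_ _
    by_cases hv : ∀ u, s (a * β u v) = 1
    · rw [Finset.sum_congr rfl fun u _ => hv u, Finset.sum_const, Finset.card_univ, nsmul_eq_mul, mul_one,
        Nat.card_eq_fintype_card]
    · push Not at hv
      obtain ⟨u₀, hu₀⟩ := hv
      have hneg : s (a * β u₀ v) = -1 := by
        simp only [s] at hu₀ ⊢
        split_ifs at hu₀ ⊢ with h0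
        · exact absurd rfl hu₀
        · rfl
      have h3 : ∑ u : P ⧸ Z, s (a * β u v) = ∑ u : P ⧸ Z, s (a * β (u₀ * u) v) :=
        (Fintype.sum_equiv (Equiv.mulLeft u₀) _ _ fun _ => rfl).symm
      have h4 : ∀ u, s (a * β (u₀ * u) v) = -s (a * β u v) := fun u => by
        rw [hβadd, mul_add, hs, hneg, neg_one_mul]
      rw [Finset.sum_congr rfl fun u _ => h4 u, Finset.sum_neg_distrib] at h3
      exact ⟨0, by linarith⟩
  obtain ⟨d, hd⟩ := IsPGroup.iff_card.mp (hP.to_quotient Z)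
  have hd2n : d ≤ 2 * (n : ℕ) := by
    by_contra hlt
    have hdvd : ∀ a, (2 ^ ((n : ℕ) + 1) : ℤ) ∣ T a := by
      intro a
      have h1 := Int.natAbs_dvd_natAbs.mpr (hTsq a)
      rw [Int.natAbs_natCast, Int.natAbs_mul, hd, ← pow_two] at h1
      have h2 := pow_dvd_of_dvd_sq ((pow_dvd_pow 2 (show 2 * (n : ℕ) + 1 ≤ d by omega)).trans h1)
      rw [← Int.dvd_natAbs]
      exact_mod_cast h2
    have h5 := Finset.dvd_sum fun a (_ : a ∈ Finset.univ) => hdvd a
    rw [hTsum] at h5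
    have h6 : 2 ^ ((n : ℕ) + 1) ∣ 2 ^ (n : ℕ) := by exact_mod_cast h5
    have := (Nat.pow_dvd_pow_iff_le_right (le_refl 2)).mp h6
    omega
  -- the action on the quotient is fixed point free
  obtain ⟨g, hg⟩ := IsCyclic.exists_generator (α := Fˣ)
  obtain ⟨k₀, hk₀⟩ := hχ (g : F) g.ne_zero
  let σ : MulAut (P ⧸ Z) := quotAut ρ Z (fun k x hx => center_invariant ρ k hx) k₀
  have hσQ : ∀ u, Qb (σ u) = (g : F) * Qb u := by
    intro u
    obtain ⟨y, rfl⟩ := QuotientGroup.mk_surjective u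
    show Qb ((ρ k₀ y : P) : P ⧸ Z) = _
    rw [hQ, hQ, ← map_mul, hEρ k₀ _ (hZ2 _ (hsq y)), hk₀]
  have hσi : ∀ (i : ℕ) u, Qb ((σ ^ i) u) = (g : F) ^ i * Qb u := by
    intro i
    induction i with
    | zero => intro u; simp
    | succ i ih => intro u; rw [pow_succ', MulAut.mul_apply, hσQ, ih, pow_succ', mul_assoc]
  have horder : orderOf g = 2 ^ (n : ℕ) - 1 := by
    rw [orderOf_eq_card_of_forall_mem_zpowers hg, Nat.card_units, hq]
  have hmod : (Nat.card (P ⧸ Z) : ZMod (2 ^ (n : ℕ) - 1)) = 1 := by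
    let H := Subgroup.zpowers σ
    haveI : Finite (MulAut (P ⧸ Z)) :=
      Finite.of_injective (fun f : MulAut (P ⧸ Z) => (f : P ⧸ Z → P ⧸ Z)) DFunLike.coe_injective
    haveI : Fintype (MulAction.orbitRel.Quotient H (P ⧸ Z)) := Fintype.ofFinite _
    rw [Nat.card_congr (MulAction.selfEquivSigmaOrbits H (P ⧸ Z)), Nat.card_sigma, Nat.cast_sum,
      Finset.sum_eq_single (Quotient.mk'' (1 : P ⧸ Z) : MulAction.orbitRel.Quotient H (P ⧸ Z))]
    · have h1 : MulAction.orbit H (Quotient.mk'' (1 : P ⧸ Z) : MulAction.orbitRel.Quotient H (P ⧸ Z)).out = {1} := by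
        have hm := Quotient.mk_out' (s₁ := MulAction.orbitRel H (P ⧸ Z)) (1 : P ⧸ Z)
        rw [MulAction.orbitRel_apply] at hm
        rw [MulAction.orbit_eq_iff.mpr hm]
        ext x
        exact ⟨fun ⟨f, hf⟩ => hf ▸ map_one (f : MulAut (P ⧸ Z)), fun hx => ⟨1, by rw [hx]; exact one_smul _ _⟩⟩
      rw [h1, Nat.card_unique, Nat.cast_one]
    · intro ω _ hω
      have hne : ω.out ≠ 1 := fun e => hω (by rw [← Quotient.out_eq' ω, e])
      rw [ZMod.natCast_eq_zero_iff]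
      haveI : Fintype (MulAction.orbit H ω.out) := Fintype.ofFinite _
      rw [Nat.card_eq_fintype_card, ← MulAction.minimalPeriod_eq_card, ← horder]
      refine orderOf_dvd_of_pow_eq_one (Units.ext ?_)
      set m := Function.minimalPeriod (σ • ·) ω.out
      have hm : (σ ^ m) ω.out = ω.out := by
        have := (MulAction.pow_smul_eq_iff_minimalPeriod_dvd (a := σ) (b := ω.out)).mpr (dvd_refl m)
        exact this
      have h2 := hσi m ω.out
      rw [hm] at h2
      rw [Units.val_pow_eq_pow_val, Units.val_one]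
      exact (mul_left_eq_self₀.mp h2.symm).resolve_right fun e => hne (hQ0 _ e)
    · exact fun e => absurd (Finset.mem_univ _) e
  have hnd : (n : ℕ) ∣ d := by
    refine dvd_of_pow_modEq hn2 ((ZMod.natCast_eq_natCast_iff _ _ _).mp ?_)
    rw [Nat.cast_one, ← hd, hmod]
  have hd0 : d ≠ 0 := by
    intro e
    rw [e, pow_zero] at hd
    haveI := (Nat.card_eq_one_iff_unique.mp hd).1
    obtain ⟨x, y, hxy⟩ := hnab
    exact hxy (Subgroup.mem_center_iff.mp ((QuotientGroup.eq_one_iff x).mp (Subsingleton.elim _ 1)) y).symm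
  have hcard := Subgroup.card_eq_card_quotient_mul_card_subgroup Z
  rw [hd, ← hcardF, hq, ← pow_add] at hcard
  rw [← hcardF, hq, hcard, ← pow_mul, ← pow_mul]
  obtain ⟨c, rfl⟩ := hnd
  have hc2 : c ≤ 2 := by
    have : (n : ℕ) * c ≤ (n : ℕ) * 2 := by omega
    exact Nat.le_of_mul_le_mul_left this n.pos
  interval_cases c
  · simp at hd0
  · exact Or.inl (congrArg (2 ^ ·) (by omega))
  · exact Or.inr (congrArg (2 ^ ·) (by omega))

end Cfsg.Lib.SuzukiTwo
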