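import Cfsg.Agent.SuzukiTwo.Card
import Cfsg.Agent.SuzukiTwo.Setup
import Cfsg.Agent.RankOne.FrobeniusSpan

/-!
Suzuki 2-groups of order `q²` are of type A.
-/

set_option autoImplicit false
set_option linter.style.haveILetI false
set_option maxHeartbeats 800000

namespace Cfsg.Lib.SuzukiTwo

open scoped commutatorElement MatrixGroups

universe u v

section Auto

variable {F : Type*} [Field F] [Fintype F] [CharP F 2]

/-- If `x ↦ x φ(x)` takes the value one only at one, then `φ` has odd order. -/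
theorem odd_orderOf (φ : F ≃+* F) (h : ∀ x : F, x * φ x = 1 → x = 1) : Odd (orderOf φ) := by
  classical
  haveI : Finite (F ≃+* F) := Finite.of_injective (fun e => (e : F → F)) DFunLike.coe_injective
  rcases Nat.even_or_odd (orderOf φ) with ⟨r, hr⟩ | h'
  swap
  · exact h'
  exfalso
  have hpos : 0 < orderOf φ := orderOf_pos φ
  have hrpos : 0 < r := by omega
  obtain ⟨z, hz⟩ : ∃ z, ∑ i ∈ Finset.range (2 * r), (φ ^ i) z ≠ 0 := by
    by_contra hno
    push Not at hno
    have hli := linearIndependent_iff'.mp (Cfsg.Lib.RankOne.aut_indep (F := F))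
      ((Finset.range (2 * r)).image fun i => φ ^ i) (fun _ => 1) (funext fun x => by
        rw [Finset.sum_image fun a ha b hb e => pow_injOn_Iio_orderOf
          (by simp at ha; show a < _; omega) (by simp at hb; show b < _; omega) e]
        simp only [one_smul, Finset.sum_apply, Pi.zero_apply]
        exact hno x)
    exact one_ne_zero (hli 1 (Finset.mem_image.mpr ⟨0, Finset.mem_range.mpr (by omega), pow_zero φ⟩))
  set y := ∑ i ∈ Finset.range r, (φ ^ (2 * i)) z with hy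
  have hsplit : ∀ m : ℕ, (∑ i ∈ Finset.range m, (φ ^ (2 * i)) z) + φ (∑ i ∈ Finset.range m, (φ ^ (2 * i)) z) =
      ∑ i ∈ Finset.range (2 * m), (φ ^ i) z := by
    intro m
    induction m with
    | zero => simp
    | succ m ih =>
      rw [Finset.sum_range_succ, map_add, show 2 * (m + 1) = 2 * m + 1 + 1 by ring, Finset.sum_range_succ _ (2 * m + 1),
        Finset.sum_range_succ _ (2 * m), ← ih, pow_succ' φ (2 * m), RingAut.mul_apply]
      ring
  have hne : y + φ y ≠ 0 := by rw [hy, hsplit]; exact hz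
  have hfix : φ (φ y) = y := by
    rw [hy, map_sum, map_sum]
    have e : ∀ i, φ (φ ((φ ^ (2 * i)) z)) = (φ ^ (2 * (i + 1))) z := fun i => by
      rw [← RingAut.mul_apply, ← RingAut.mul_apply,
        show φ * φ * φ ^ (2 * i) = φ ^ (2 * (i + 1)) by
          rw [show 2 * (i + 1) = 2 * i + 1 + 1 by ring, pow_succ', pow_succ', mul_assoc]]
    simp only [e]
    have h1 := Finset.sum_range_succ (fun i => (φ ^ (2 * i)) z) r
    rw [Finset.sum_range_succ' (fun i => (φ ^ (2 * i)) z) r, show (φ ^ (2 * r)) z = (φ ^ (2 * 0)) z by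
      rw [two_mul, ← hr, pow_orderOf_eq_one, mul_zero, pow_zero]] at h1
    exact add_right_cancel h1
  have hy0 : y ≠ 0 := fun e => hne (by rw [e, map_zero, add_zero])
  have hφy0 : φ y ≠ 0 := (map_ne_zero φ).mpr hy0
  have hx := h (y / φ y) (by rw [map_div₀, hfix]; field_simp)
  rw [div_eq_one_iff_eq hφy0] at hx
  rw [← hx] at hne
  exact hne (CharTwo.add_self_eq_zero y)

end Auto

section Model

variable {F : Type*} [Field F]

/-- Elements of the model of type A. -/
noncomputable def tri (φ : F →+* F) (x y : F) : GL (Fin 3) F :=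
  Matrix.GeneralLinearGroup.mkOfDetNeZero !![1, 0, 0; x, 1, 0; y, φ x, 1] (by simp [Matrix.det_fin_three])

theorem tri_coe (φ : F →+* F) (x y : F) :
    (tri φ x y : Matrix (Fin 3) (Fin 3) F) = !![1, 0, 0; x, 1, 0; y, φ x, 1] := rfl

theorem tri_mul (φ : F →+* F) (x y x' y' : F) :
    tri φ x y * tri φ x' y' = tri φ (x + x') (y + y' + φ x * x') := by
  refine Units.ext ?_
  rw [Units.val_mul, tri_coe, tri_coe, tri_coe]
  ext i j
  fin_cases i <;> fin_cases j <;> simp [Matrix.mul_apply, Fin.sum_univ_three, map_add] <;> ring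

theorem tri_zero (φ : F →+* F) : tri φ 0 0 = 1 := by
  refine Units.ext ?_
  rw [tri_coe, Units.val_one, map_zero]
  ext i j
  fin_cases i <;> fin_cases j <;> simp

theorem tri_inj (φ : F →+* F) {x y x' y' : F} (h : tri φ x y = tri φ x' y') : x = x' ∧ y = y' := by
  have h1 := congrArg (fun g : GL (Fin 3) F => (g : Matrix (Fin 3) (Fin 3) F) 1 0) h
  have h2 := congrArg (fun g : GL (Fin 3) F => (g : Matrix (Fin 3) (Fin 3) F) 2 0) h
  simp [tri_coe] at h1 h2
  exact ⟨h1, h2⟩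

theorem tri_mem (φ : F →+* F) (x y : F) : tri φ x y ∈ Cfsg.suzukiTypeA F φ :=
  Subgroup.subset_closure ⟨x, y, tri_coe φ x y⟩

theorem mem_typeA (φ : F →+* F) {g : GL (Fin 3) F} (hg : g ∈ Cfsg.suzukiTypeA F φ) :
    ∃ x y, g = tri φ x y := by
  induction hg using Subgroup.closure_induction with
  | mem g hg =>
    obtain ⟨x, y, h⟩ := hg
    exact ⟨x, y, Units.ext h⟩
  | one => exact ⟨0, 0, (tri_zero φ).symm⟩
  | mul a b _ _ ha hb =>
    obtain ⟨x, y, rfl⟩ := ha
    obtain ⟨x', y', rfl⟩ := hb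
    exact ⟨_, _, tri_mul φ x y x' y'⟩
  | inv a _ ha =>
    obtain ⟨x, y, rfl⟩ := ha
    refine ⟨-x, -y + φ x * x, inv_eq_of_mul_eq_one_right ?_⟩
    rw [tri_mul, ← tri_zero φ]
    congr 1 <;> ring

end Model

/-- A Suzuki 2-group of order `q²` is of type A. -/
theorem typeA {P : Type u} [Group P] (hP : Cfsg.IsSuzukiTwoGroup P)
    (hcard : Nat.card P = Nat.card (Subgroup.center P) ^ 2) :
    ∃ (F : Type) (_ : Field F) (_ : Fintype F) (φ : F ≃+* F), Fintype.card F = Nat.card (Subgroup.center P) ∧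
      φ ≠ RingEquiv.refl F ∧ Odd (orderOf φ) ∧ Nonempty (P ≃* Cfsg.suzukiTypeA F (φ : F →+* F)) := by
  classical
  obtain ⟨hfin, h2, hnab, htwo, K, iK, ρ, h⟩ := exists_involTrans hP
  set Z := Subgroup.center P with hZdef
  have hZ2 : ∀ z ∈ Z, z * z = 1 := center_sq_eq_one h2 h hnab
  have hsq : ∀ x : P, x * x ∈ Z := sq_mem_center h2 h hnab htwo
  have hcom : ∀ a b : P, ⁅a, b⁆ ∈ Z := fun a b => by
    rw [comm_eq_squares]
    exact mul_mem (mul_mem (hsq a) (hsq _)) (hsq b⁻¹)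
  obtain ⟨t₁, t₂, ht12, ht1, ht1', ht2, ht2'⟩ := htwo
  obtain ⟨F₁, j1, j2, j3, E₁, χ₁, hχ₁, hEadd₁, hE0₁, hEρ₁, hEsurj₁, hcardF₁⟩ := exists_coord h ht1 ht1'
  have hom : omega h = Z := le_antisymm (fun x hx => h.central x hx) fun z hz => hZ2 z hz
  rw [hom] at hcardF₁
  -- move the field to the smallest universe
  obtain ⟨n, -, hn⟩ := FiniteField.card F₁ 2
  haveI : Fact (Nat.Prime 2) := ⟨Nat.prime_two⟩
  let F := GaloisField 2 (n : ℕ)
  letI : Fintype F := Fintype.ofFinite F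
  have hFq : Fintype.card F = 2 ^ (n : ℕ) := by
    rw [← Nat.card_eq_fintype_card]
    exact GaloisField.card 2 (n : ℕ) n.pos.ne'
  have f : F₁ ≃+* F := FiniteField.ringEquivOfCardEq (by rw [hn, hFq])
  let E : P → F := fun a => f (E₁ a)
  let χ : K →* F := (f : F₁ →* F).comp χ₁
  have hχ : ∀ x : F, x ≠ 0 → ∃ k, χ k = x := fun x hx => by
    obtain ⟨k, hk⟩ := hχ₁ (f.symm x) ((map_ne_zero f.symm).mpr hx)
    exact ⟨k, by show f (χ₁ k) = x; rw [hk, f.apply_symm_apply]⟩
  have hEadd : ∀ a b, a * a = 1 → b * b = 1 → E (a * b) = E a + E b := fun a b ha hb => by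
    show f _ = f _ + f _
    rw [hEadd₁ a b ha hb, map_add]
  have hE0 : ∀ a, a * a = 1 → E a = 0 → a = 1 := fun a ha e => hE0₁ a ha (f.injective (e.trans (map_zero f).symm))
  have hEρ : ∀ k a, a * a = 1 → E (ρ k a) = χ k * E a := fun k a ha => by
    show f _ = f _ * f _
    rw [hEρ₁ k a ha, map_mul]
  have hEsurj : ∀ x : F, ∃ a, a * a = 1 ∧ E a = x := fun x => by
    obtain ⟨a, ha, e⟩ := hEsurj₁ (f.symm x)
    exact ⟨a, ha, by show f (E₁ a) = x; rw [e, f.apply_symm_apply]⟩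
  have hcardF : Nat.card F = Nat.card Z := by rw [← Nat.card_congr f.toEquiv, hcardF₁]
  have hEZ : ∀ a ∈ Z, ∀ b ∈ Z, E (a * b) = E a + E b := fun a ha b hb => hEadd a b (hZ2 a ha) (hZ2 b hb)
  have hE1 : E 1 = 0 := by
    have := hEadd 1 1 (one_mul 1) (one_mul 1)
    rw [one_mul] at this
    simpa using this
  -- the quadratic map
  let Qb : P ⧸ Z → F := Quotient.lift (fun y => E (y * y)) fun a b hab => by
    have hz : a⁻¹ * b ∈ Z := QuotientGroup.leftRel_apply.mp hab
    show E (a * a) = E (b * b)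
    rw [← mul_inv_cancel_left a b, mul_sq (by rw [comm_central hz]; exact one_mem _), comm_central hz, mul_one,
      hZ2 _ hz, mul_one]
  have hQ : ∀ y : P, Qb (y : P ⧸ Z) = E (y * y) := fun y => rfl
  have hβ : ∀ y z : P, Qb ((y * z : P) : P ⧸ Z) = Qb (y : P ⧸ Z) + Qb (z : P ⧸ Z) + E ⁅z, y⁆ := fun y z => by
    rw [hQ, hQ, hQ, mul_sq (hcom z y), hEZ _ (mul_mem (hsq y) (hsq z)) _ (hcom z y), hEZ _ (hsq y) _ (hsq z)]
  have hQ0 : ∀ u, Qb u = 0 → u = 1 := by
    intro u hu
    obtain ⟨y, rfl⟩ := QuotientGroup.mk_surjective u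
    rw [hQ] at hu
    exact (QuotientGroup.eq_one_iff y).mpr (h.central y (hE0 _ (hZ2 _ (hsq y)) hu))
  have hQ1 : Qb 1 = 0 := by
    have := hQ 1
    rwa [one_mul, hE1] at this
  haveI : Fintype (P ⧸ Z) := Fintype.ofFinite _
  have hcardU : Nat.card (P ⧸ Z) = Fintype.card F := by
    have h1 := Subgroup.card_eq_card_quotient_mul_card_subgroup Z
    rw [hcard, pow_two] at h1
    rw [← Nat.card_eq_fintype_card, hcardF]
    exact (Nat.eq_of_mul_eq_mul_right Nat.card_pos h1).symm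
  -- the quotient as a field
  obtain ⟨g, hg⟩ := IsCyclic.exists_generator (α := Fˣ)
  obtain ⟨k₀, hk₀⟩ := hχ (g : F) g.ne_zero
  let σ : MulAut (P ⧸ Z) := quotAut ρ Z (fun k x hx => center_invariant ρ k hx) k₀
  have hσQ : ∀ u, Qb (σ u) = (g : F) * Qb u := by
    intro u
    obtain ⟨y, rfl⟩ := QuotientGroup.mk_surjective u
    show Qb ((ρ k₀ y : P) : P ⧸ Z) = _
    rw [hQ, hQ, ← map_mul, hEρ k₀ _ (hZ2 _ (hsq y)), hk₀]
  have hσi : ∀ (i : ℕ) u, Qb ((σ ^ i) u) = (g : F) ^ i * Qb u := by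
    intro i
    induction i with
    | zero => intro u; simp
    | succ i ih => intro u; rw [pow_succ', MulAut.mul_apply, hσQ, ih, pow_succ', mul_assoc]
  have horder : orderOf g = Fintype.card F - 1 := by
    rw [orderOf_eq_card_of_forall_mem_zpowers hg, Nat.card_units, Nat.card_eq_fintype_card]
  haveI : Nontrivial (P ⧸ Z) := Finite.one_lt_card_iff_nontrivial.mp (hcardU ▸ Fintype.one_lt_card)
  obtain ⟨u₀, hu₀⟩ := exists_ne (1 : P ⧸ Z)
  have hQu₀ : Qb u₀ ≠ 0 := fun e => hu₀ (hQ0 _ e)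
  have horbit : ∀ u : P ⧸ Z, u ≠ 1 → ∃ i : ℕ, (σ ^ i) u₀ = u := by
    let o : Fin (orderOf g) → {u : P ⧸ Z // u ≠ 1} := fun i => ⟨(σ ^ (i : ℕ)) u₀, fun e => hu₀ (by
      simpa using congrArg (σ ^ (i : ℕ)).symm e)⟩
    have ho : Function.Injective o := fun i j e => by
      have h1 := congrArg (fun t : {u : P ⧸ Z // u ≠ 1} => Qb t.1) e
      simp only [o, hσi] at h1
      have h2 : g ^ (i : ℕ) = g ^ (j : ℕ) := Units.ext (by
        rw [Units.val_pow_eq_pow_val, Units.val_pow_eq_pow_val]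
        exact mul_right_cancel₀ hQu₀ h1)
      exact Fin.ext (pow_injOn_Iio_orderOf i.2 j.2 h2)
    have hb : Function.Bijective o := (Fintype.bijective_iff_injective_and_card o).mpr ⟨ho, by
      rw [Fintype.card_fin, horder, Fintype.card_subtype_compl, Fintype.card_subtype_eq,
        ← Nat.card_eq_fintype_card (α := P ⧸ Z), hcardU]⟩
    intro u hu
    obtain ⟨i, hi⟩ := hb.2 ⟨u, hu⟩
    exact ⟨i, congrArg Subtype.val hi⟩
  have hUc : ∀ a b : P ⧸ Z, a * b = b * a := fun a b => by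
    obtain ⟨x, rfl⟩ := QuotientGroup.mk_surjective a
    obtain ⟨y, rfl⟩ := QuotientGroup.mk_surjective b
    refine (commutatorElement_eq_one_iff_commute.mp ?_).eq
    rw [← QuotientGroup.mk'_apply, ← QuotientGroup.mk'_apply Z y, ← map_commutatorElement]
    exact (QuotientGroup.eq_one_iff _).mpr (hcom x y)
  letI : CommGroup (P ⧸ Z) := { (inferInstance : Group (P ⧸ Z)) with mul_comm := hUc }
  letI : CommGroup (Subgroup.zpowers σ) :=
    { (inferInstance : Group (Subgroup.zpowers σ)) with mul_comm := fun a b => mul_comm' a b }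
  obtain ⟨F', k1, k2, k3, e', ψ, hψ, he'⟩ := exists_field (V := P ⧸ Z) (fun u => by
      obtain ⟨y, rfl⟩ := QuotientGroup.mk_surjective u
      rw [← QuotientGroup.mk_mul]
      exact (QuotientGroup.eq_one_iff _).mpr (hsq y))
    (Subgroup.zpowers σ).subtype (fun a b ha hb => by
      obtain ⟨i, hi⟩ := horbit a ha
      obtain ⟨j, hj⟩ := horbit b hb
      refine ⟨⟨σ ^ ((j : ℤ) - i), Subgroup.zpow_mem _ (Subgroup.mem_zpowers σ) _⟩, ?_⟩
      show (σ ^ ((j : ℤ) - i)) a = b
      rw [← hi, ← MulAut.mul_apply, ← zpow_natCast σ i, ← zpow_add, sub_add_cancel, zpow_natCast, hj])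
  have f' : F' ≃+* F := FiniteField.ringEquivOfCardEq (by
    rw [← hcardU, ← Nat.card_eq_fintype_card (α := F')]
    exact (Nat.card_congr (e'.toEquiv.trans Multiplicative.toAdd)).symm)
  let Φ : P ⧸ Z → F := fun u => f' (e' u).toAdd
  set ω : F := f' (ψ ⟨σ, Subgroup.mem_zpowers σ⟩) with hω
  have hΦσ : ∀ u, Φ (σ u) = ω * Φ u := fun u => by
    show f' _ = f' _ * f' _
    rw [← map_mul]
    exact congrArg f' (he' ⟨σ, Subgroup.mem_zpowers σ⟩ u)
  have hΦmul : ∀ u w, Φ (u * w) = Φ u + Φ w := fun u w => by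
    show f' _ = f' _ + f' _
    rw [map_mul, toAdd_mul, map_add]
  have hΦb : Function.Bijective Φ := f'.bijective.comp (Multiplicative.toAdd.bijective.comp e'.bijective)
  let Ψ : F → P ⧸ Z := (Equiv.ofBijective Φ hΦb).symm
  have hΦΨ : ∀ x, Φ (Ψ x) = x := (Equiv.ofBijective Φ hΦb).apply_symm_apply
  have hΨΦ : ∀ u, Ψ (Φ u) = u := (Equiv.ofBijective Φ hΦb).symm_apply_apply
  let qf : F → F := fun x => Qb (Ψ x)
  have hΨmul : ∀ x y, Ψ (x + y) = Ψ x * Ψ y := fun x y =>
    hΦb.1 (by rw [hΦΨ, hΦmul, hΦΨ, hΦΨ])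
  have hΨω : ∀ x, Ψ (ω * x) = σ (Ψ x) := fun x => hΦb.1 (by rw [hΦΨ, hΦσ, hΦΨ])
  have hqω : ∀ (i : ℕ) x, qf (ω ^ i * x) = (g : F) ^ i * qf x := by
    intro i
    induction i with
    | zero => intro x; simp
    | succ i ih =>
      intro x
      show Qb (Ψ (ω ^ (i + 1) * x)) = _
      rw [pow_succ', mul_assoc, hΨω, hσQ]
      show (g : F) * qf (ω ^ i * x) = _
      rw [ih, pow_succ', mul_assoc]
  have hΨ0 : Ψ 0 = 1 := hΦb.1 (by
    rw [hΦΨ]
    have := hΦmul 1 1
    rw [one_mul] at this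
    exact (by simpa using this : Φ 1 = 0).symm)
  have hq0 : qf 0 = 0 := by show Qb (Ψ 0) = 0; rw [hΨ0, hQ1]
  have hqne : ∀ x, x ≠ 0 → qf x ≠ 0 := fun x hx e => hx (by
    have := hQ0 _ e
    rw [← hΦΨ x, this, ← hΨ0, hΦΨ])
  have hωgen : ∀ x : F, x ≠ 0 → ∃ i : ℕ, ω ^ i = x := by
    have hi : ∀ (i : ℕ) u, Φ ((σ ^ i) u) = ω ^ i * Φ u := by
      intro i
      induction i with
      | zero => intro u; simp
      | succ i ih => intro u; rw [pow_succ', MulAut.mul_apply, hΦσ, ih, pow_succ', mul_assoc]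
    have h1 : Φ u₀ ≠ 0 := fun e => hu₀ (by rw [← hΨΦ u₀, e, hΨ0])
    intro x hx
    obtain ⟨i, hiu⟩ := horbit (Ψ (x * Φ u₀)) (fun e => mul_ne_zero hx h1 (by rw [← hΦΨ (x * Φ u₀), e, ← hΨ0, hΦΨ]))
    have h2 := hi i u₀
    rw [hiu, hΦΨ] at h2
    exact ⟨i, (mul_right_cancel₀ h1 h2).symm⟩
  -- the power map
  set c := qf 1 with hc
  have hc0 : c ≠ 0 := hqne 1 one_ne_zero
  let M : F →* F :=
    { toFun := fun x => qf x / c
      map_one' := div_self hc0
      map_mul' := fun x y => by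
        by_cases hx : x = 0
        · simp [hx, hq0]
        obtain ⟨i, rfl⟩ := hωgen x hx
        have h1 := hqω i 1
        rw [mul_one] at h1
        rw [hqω, h1, ← hc, mul_div_assoc ((g : F) ^ i) c, div_self hc0, mul_one, mul_div_assoc] }
  have hqM : ∀ x, qf x = c * M x := fun x => (mul_div_cancel₀ _ hc0).symm
  have hquad : ∀ x y z : F, qf (x + y + z) + qf (x + y) + qf (x + z) + qf (y + z) + qf x + qf y + qf z = 0 := by
    intro x y z
    show Qb (Ψ _) + Qb (Ψ _) + Qb (Ψ _) + Qb (Ψ _) + Qb (Ψ _) + Qb (Ψ _) + Qb (Ψ _) = 0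
    rw [hΨmul, hΨmul, hΨmul, hΨmul]
    obtain ⟨a, ha⟩ := QuotientGroup.mk_surjective (Ψ x)
    obtain ⟨b, hb⟩ := QuotientGroup.mk_surjective (Ψ y)
    obtain ⟨d, hd⟩ := QuotientGroup.mk_surjective (Ψ z)
    rw [← ha, ← hb, ← hd]
    simp only [← QuotientGroup.mk_mul, hβ]
    rw [comm_mul_right (hcom d b), hEZ _ (hcom d a) _ (hcom d b)]
    linear_combination (2 * Qb (a : P ⧸ Z) + 2 * Qb (b : P ⧸ Z) + 2 * Qb (d : P ⧸ Z) + E ⁅b, a⁆ + E ⁅d, a⁆ + E ⁅d, b⁆) *
      (CharTwo.two_eq_zero (R := F))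
  obtain ⟨s, cp, hs⟩ := Cfsg.Lib.RankOne.quadratic_span qf hquad
  obtain ⟨pr, -, hpr⟩ : ∃ pr : (F ≃+* F) × (F ≃+* F), pr ∈ s ∧ ∀ x, M x = pr.1 x * pr.2 x := by
    by_contra hno
    push Not at hno
    let hm : (F ≃+* F) × (F ≃+* F) → (F →* F) := fun pr => (pr.1 : F →* F) * (pr.2 : F →* F)
    have hM : M ∉ s.image hm := fun hmem => by
      obtain ⟨pr, hpr, e⟩ := Finset.mem_image.mp hmem
      obtain ⟨x, hx⟩ := hno pr hpr
      exact hx (by rw [← e]; rfl)
    have hli := linearIndependent_iff'.mp (linearIndependent_monoidHom F F) (insert M (s.image hm))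
      (fun m => if m = M then c else ∑ pr ∈ s.filter (fun pr => hm pr = m), cp pr) (funext fun x => by
        simp only [Finset.sum_apply, Pi.smul_apply, smul_eq_mul, Pi.zero_apply]
        rw [Finset.sum_insert hM, if_pos rfl]
        have h1 : ∑ m ∈ s.image hm, (if m = M then c else ∑ pr ∈ s.filter (fun pr => hm pr = m), cp pr) * m x =
            qf x := by
          rw [hs x, ← Finset.sum_fiberwise_of_maps_to (t := s.image hm) (g := hm) (fun pr hpr => Finset.mem_image_of_mem hm hpr)]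
          refine Finset.sum_congr rfl fun m hm' => ?_
          rw [if_neg (fun e : m = M => hM (e ▸ hm')), Finset.sum_mul]
          refine Finset.sum_congr rfl fun pr hpr => ?_
          rw [← (Finset.mem_filter.mp hpr).2]
          rfl
        rw [h1, hqM, CharTwo.add_self_eq_zero])
    have := hli M (Finset.mem_insert_self _ _)
    rw [if_pos rfl] at this
    exact hc0 this
  obtain ⟨σ₁, τ₁⟩ := pr
  let φ : F ≃+* F := σ₁.symm.trans τ₁
  have hqφ : ∀ x, qf (σ₁.symm x) = c * (x * φ x) := fun x => by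
    rw [hqM, hpr]
    show c * (σ₁ (σ₁.symm x) * τ₁ (σ₁.symm x)) = _
    rw [σ₁.apply_symm_apply]
    rfl
  -- coordinates
  let xc : P → F := fun p => σ₁ (Φ (p : P ⧸ Z))
  let yc : P → F := fun p => E p / c
  have hxmul : ∀ a b, xc (a * b) = xc a + xc b := fun a b => by
    show σ₁ _ = σ₁ _ + σ₁ _
    rw [QuotientGroup.mk_mul, hΦmul, map_add]
  have hxZ : ∀ z ∈ Z, xc z = 0 := fun z hz => by
    show σ₁ (Φ (z : P ⧸ Z)) = 0
    rw [(QuotientGroup.eq_one_iff z).mpr hz, ← hΨ0, hΦΨ, map_zero]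
  have hsquare : ∀ p, yc (p * p) = xc p * φ (xc p) := fun p => by
    show E (p * p) / c = _
    rw [← hQ, div_eq_iff hc0, mul_comm _ c, ← hqφ]
    show Qb _ = Qb (Ψ (σ₁.symm (σ₁ (Φ (p : P ⧸ Z)))))
    rw [σ₁.symm_apply_apply, hΨΦ]
  have hyadd : ∀ a ∈ Z, ∀ b ∈ Z, yc (a * b) = yc a + yc b := fun a ha b hb => by
    show E _ / c = E _ / c + E _ / c
    rw [hEZ a ha b hb, add_div]
  have hysurj : ∀ y : F, ∃ z ∈ Z, yc z = y := fun y => by
    obtain ⟨a, ha, e⟩ := hEsurj (y * c)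
    exact ⟨a, h.central a ha, by show E a / c = y; rw [e, mul_div_cancel_right₀ _ hc0]⟩
  have hy0 : ∀ z ∈ Z, yc z = 0 → z = 1 := fun z hz e => hE0 z (hZ2 z hz) (by
    have e' : E z / c = 0 := e
    rwa [div_eq_zero_iff, or_iff_left hc0] at e')
  have hyone : yc 1 = 0 := by show E 1 / c = 0; rw [hE1, zero_div]
  have hxsurj : ∀ x : F, ∃ p, xc p = x := fun x => by
    obtain ⟨p, hp⟩ := QuotientGroup.mk_surjective (Ψ (σ₁.symm x))
    exact ⟨p, by show σ₁ (Φ (p : P ⧸ Z)) = x; rw [hp, hΦΨ, σ₁.apply_symm_apply]⟩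
  have hodd : Odd (orderOf φ) := odd_orderOf φ fun x hx => by
    have h1 := hqφ x
    rw [hx, mul_one, hc] at h1
    by_contra hne
    by_cases hx0 : σ₁.symm x = 0
    · rw [hx0, hq0] at h1
      exact hc0 h1.symm
    obtain ⟨i, hi⟩ := hωgen _ hx0
    have h2 : qf (σ₁.symm x) = (g : F) ^ i * qf 1 := by rw [← hi, ← hqω, mul_one]
    have h3 : g ^ i = 1 := Units.ext (by
      rw [Units.val_pow_eq_pow_val, Units.val_one]
      exact mul_right_cancel₀ hc0 (by rw [one_mul, ← h2, h1]))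
    have hωord : ω ^ orderOf g = 1 := by
      rw [horder]
      exact FiniteField.pow_card_sub_one_eq_one ω fun e => by
        obtain ⟨j, hj⟩ := hωgen (σ₁.symm x) hx0
        rw [e] at hj
        rcases j with _ | j
        · rw [pow_zero] at hj
          exact hne (by rw [← σ₁.apply_symm_apply x, ← hj, map_one])
        · rw [zero_pow (by omega)] at hj
          exact hx0 hj.symm
    obtain ⟨l, rfl⟩ := orderOf_dvd_of_pow_eq_one h3
    rw [pow_mul, hωord, one_pow] at hi
    exact hne (by rw [← σ₁.apply_symm_apply x, ← hi, map_one])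
  have hφne : φ ≠ RingEquiv.refl F := by
    intro e
    obtain ⟨a, b, hab⟩ := hnab
    refine hab (commutatorElement_eq_one_iff_commute.mp (hE0 _ (hZ2 _ (hcom a b)) ?_)).eq
    have h1 : ∀ p, E (p * p) = c * (xc p * xc p) := fun p => by
      have := hsquare p
      rw [e, RingEquiv.refl_apply] at this
      show _ = _
      rw [← this]
      exact (mul_div_cancel₀ _ hc0).symm
    have h2 := hβ b a
    rw [hQ, hQ, hQ, h1, h1, h1, hxmul] at h2
    linear_combination -h2 + (c * xc b * xc a) * (CharTwo.two_eq_zero (R := F))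
  refine ⟨F, inferInstance, inferInstance, φ, by rw [← Nat.card_eq_fintype_card, hcardF], hφne, hodd, ?_⟩
  -- glue along the common quotient
  let φr : F →+* F := (φ : F →+* F)
  let R : Subgroup (P × GL (Fin 3) F) :=
    { carrier := {r | ∃ y, r.2 = tri φr (xc r.1) y}
      one_mem' := ⟨0, by rw [Prod.fst_one, Prod.snd_one, hxZ 1 (one_mem _), tri_zero]⟩
      mul_mem' := fun {r r'} ⟨y, hy⟩ ⟨y', hy'⟩ => ⟨y + y' + φr (xc r.1) * xc r'.1, by
        rw [Prod.snd_mul, Prod.fst_mul, hy, hy', tri_mul, hxmul]⟩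
      inv_mem' := fun {r} ⟨y, hy⟩ => ⟨-y + φr (xc r.1) * xc r.1, by
        have e : xc r.1⁻¹ = -xc r.1 := by
          have := hxmul r.1 r.1⁻¹
          rw [mul_inv_cancel, hxZ 1 (one_mem _)] at this
          linear_combination -this
        rw [Prod.snd_inv, Prod.fst_inv, hy, e]
        refine inv_eq_of_mul_eq_one_right ?_
        rw [tri_mul, ← tri_zero φr]
        congr 1 <;> ring⟩ }
  have hcent0 : ∀ (y : F) (a b : F), tri φr 0 y * tri φr a b = tri φr a b * tri φr 0 y := fun y a b => by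
    rw [tri_mul, tri_mul, map_zero]
    congr 1 <;> ring
  let D : Subgroup R :=
    { carrier := {r | (r : P × GL (Fin 3) F).1 ∈ Z ∧ (r : P × GL (Fin 3) F).2 = tri φr 0 (yc (r : P × GL (Fin 3) F).1)}
      one_mem' := ⟨one_mem _, by simp [hyone, tri_zero]⟩
      mul_mem' := fun {r r'} ⟨h1, h2⟩ ⟨h1', h2'⟩ => ⟨mul_mem h1 h1', by
        simp only [Subgroup.coe_mul, Prod.snd_mul, Prod.fst_mul, h2, h2', tri_mul, map_zero, zero_mul, add_zero,
          hyadd _ h1 _ h1']⟩
      inv_mem' := fun {r} ⟨h1, h2⟩ => ⟨inv_mem h1, by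
        simp only [Subgroup.coe_inv, Prod.snd_inv, Prod.fst_inv, h2]
        refine inv_eq_of_mul_eq_one_right ?_
        rw [tri_mul, ← tri_zero φr, map_zero, zero_mul, add_zero, add_zero, ← hyadd _ h1 _ (inv_mem h1),
          mul_inv_cancel, hyone]⟩ }
  haveI : D.Normal := ⟨fun d hd r => by
    have h1 : (d : P × GL (Fin 3) F).1 ∈ Z := hd.1
    have h2 : (d : P × GL (Fin 3) F).2 = tri φr 0 (yc (d : P × GL (Fin 3) F).1) := hd.2
    have e : r * d * r⁻¹ = d := by
      refine mul_inv_eq_iff_eq_mul.mpr (Subtype.ext (Prod.ext (Subgroup.mem_center_iff.mp h1 _) ?_))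
      obtain ⟨y, hy⟩ := r.2
      simp only [Subgroup.coe_mul, Prod.snd_mul, h2, hy]
      exact (hcent0 _ _ _).symm
    rw [e]
    exact hd⟩
  have hsqD : ∀ r : R ⧸ D, r * r = 1 := by
    intro q
    obtain ⟨r, rfl⟩ := QuotientGroup.mk_surjective q
    rw [← QuotientGroup.mk_mul]
    refine (QuotientGroup.eq_one_iff _).mpr ⟨hsq _, ?_⟩
    obtain ⟨y, hy⟩ := r.2
    simp only [Subgroup.coe_mul, Prod.snd_mul, Prod.fst_mul, hy, tri_mul, hsquare]
    congr 1
    · exact CharTwo.add_self_eq_zero _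
    · show y + y + φ (xc _) * xc _ = _
      rw [CharTwo.add_self_eq_zero, zero_add, mul_comm]
  letI : CommGroup (R ⧸ D) := { (inferInstance : Group (R ⧸ D)) with
    mul_comm := fun a b => by
      have := hsqD (a * b)
      rw [mul_assoc, mul_eq_one_iff_eq_inv, mul_inv_rev, mul_inv_rev, inv_eq_of_sq (hsqD a), inv_eq_of_sq (hsqD b)] at this
      calc a * b = (b * a * b) * b := by rw [← this]
        _ = b * a := by rw [mul_assoc _ b b, hsqD b, mul_one] }
  letI : Module (ZMod 2) (Additive (R ⧸ D)) := AddCommGroup.zmodModule fun q => by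
    refine Additive.toMul.injective ?_
    rw [toMul_nsmul, toMul_zero, pow_two]
    exact hsqD q.toMul
  letI : Algebra (ZMod 2) F := ZMod.algebra F 2
  let low : F → R := fun y => ⟨(1, tri φr 0 y), y, by show tri φr 0 y = tri φr (xc 1) y; rw [hxZ 1 (one_mem _)]⟩
  let j₀ : F →+ Additive (R ⧸ D) := AddMonoidHom.mk' (fun y => Additive.ofMul ((low y : R) : R ⧸ D)) fun y y' => by
    refine Additive.toMul.injective ?_
    rw [toMul_add, toMul_ofMul, toMul_ofMul, toMul_ofMul, ← QuotientGroup.mk_mul]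
    refine congrArg _ (Subtype.ext (Prod.ext (mul_one _).symm ?_))
    show tri φr 0 (y + y') = tri φr 0 y * tri φr 0 y'
    rw [tri_mul, map_zero, zero_mul, add_zero, add_zero]
  obtain ⟨ret, hret⟩ := LinearMap.exists_leftInverse_of_injective (j₀.toZModLinearMap 2) (LinearMap.ker_eq_bot.mpr fun y y' e => by
    have h1 := QuotientGroup.eq.mp (congrArg Additive.toMul e)
    have h2 : tri φr 0 (y + y') = tri φr 0 (yc 1) := by
      have h3 := h1.2
      simp only [low, Subgroup.coe_mul, Subgroup.coe_inv, Prod.snd_mul, Prod.snd_inv, Prod.fst_mul, Prod.fst_inv,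
        inv_one, one_mul] at h3
      rw [← h3]
      have e2 : (tri φr 0 y)⁻¹ = tri φr 0 y := inv_eq_of_sq (by
        rw [tri_mul, ← tri_zero φr, map_zero, zero_mul, add_zero, add_zero, CharTwo.add_self_eq_zero])
      rw [e2, tri_mul, map_zero, zero_mul, add_zero, add_zero]
    rw [hyone] at h2
    exact CharTwo.add_eq_zero.mp (tri_inj φr h2).2)
  let r₀ : R →* Multiplicative F :=
    { toFun := fun r => Multiplicative.ofAdd (ret (Additive.ofMul (r : R ⧸ D)))
      map_one' := by rw [QuotientGroup.mk_one, ofMul_one, map_zero]; rfl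
      map_mul' := fun a b => by rw [QuotientGroup.mk_mul, ofMul_mul, map_add]; rfl }
  have hr₀low : ∀ y, r₀ (low y) = Multiplicative.ofAdd y := fun y =>
    congrArg Multiplicative.ofAdd (LinearMap.congr_fun hret y)
  let L := r₀.ker
  let pP : L →* P := (MonoidHom.fst P (GL (Fin 3) F)).comp (R.subtype.comp L.subtype)
  let pT : L →* Cfsg.suzukiTypeA F φr := MonoidHom.codRestrict
    ((MonoidHom.snd P (GL (Fin 3) F)).comp (R.subtype.comp L.subtype)) _ fun l => by
      obtain ⟨y, hy⟩ := (l : R).2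
      show ((l : R) : P × GL (Fin 3) F).2 ∈ _
      rw [hy]
      exact tri_mem _ _ _
  have hpP : Function.Bijective pP := by
    refine ⟨(injective_iff_map_eq_one pP).mpr fun l hl => ?_, fun p => ?_⟩
    · obtain ⟨⟨⟨a, t⟩, y, hy⟩, hl0⟩ := l
      have ha : a = 1 := hl
      subst ha
      have ht : t = tri φr 0 y := by rw [← hxZ 1 (one_mem _)]; exact hy
      subst ht
      have h1 : r₀ (low y) = 1 := hl0
      rw [hr₀low] at h1
      have hy0' : y = 0 := Multiplicative.ofAdd.injective h1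
      subst hy0'
      exact Subtype.ext (Subtype.ext (Prod.ext rfl (tri_zero φr)))
    · let r : R := ⟨(p, tri φr (xc p) 0), 0, rfl⟩
      refine ⟨⟨r * low (r₀ r).toAdd, ?_⟩, by simp [pP, r, low]⟩
      show r₀ (r * low _) = 1
      rw [map_mul, hr₀low, ofAdd_toAdd]
      exact Multiplicative.toAdd.injective (CharTwo.add_self_eq_zero _)
  have hpT : Function.Bijective pT := by
    refine ⟨(injective_iff_map_eq_one pT).mpr fun l hl => ?_, fun t => ?_⟩
    · obtain ⟨⟨⟨a, t⟩, y, hy⟩, hl0⟩ := l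
      have ht : t = 1 := congrArg Subtype.val hl
      subst ht
      have hxy := tri_inj φr ((tri_zero φr).trans hy)
      have haZ : a ∈ Z := by
        refine (QuotientGroup.eq_one_iff a).mp ?_
        rw [← hΨΦ (a : P ⧸ Z), ← hΨ0]
        exact congrArg Ψ (σ₁.injective (hxy.1.symm.trans (map_zero σ₁).symm))
      have hsame : (⟨(a, 1), y, hy⟩ : R)⁻¹ * low (yc a) ∈ D := by
        refine ⟨?_, ?_⟩
        · show a⁻¹ * 1 ∈ Z
          rw [mul_one]
          exact inv_mem haZ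
        · show (1 : GL (Fin 3) F)⁻¹ * tri φr 0 (yc a) = tri φr 0 (yc (a⁻¹ * 1))
          rw [inv_one, one_mul, mul_one, inv_eq_of_sq (hZ2 a haZ)]
      have h1 : r₀ (low (yc a)) = 1 := by
        show Multiplicative.ofAdd (ret (Additive.ofMul ((low (yc a) : R) : R ⧸ D))) = 1
        rw [← QuotientGroup.eq.mpr hsame]
        exact hl0
      rw [hr₀low] at h1
      have := hy0 a haZ (Multiplicative.ofAdd.injective h1)
      subst this
      rfl
    · obtain ⟨x, y, hxy⟩ := mem_typeA φr t.2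
      obtain ⟨p, rfl⟩ := hxsurj x
      let r : R := ⟨(p, tri φr (xc p) y), y, rfl⟩
      obtain ⟨z, hz, hzy⟩ := hysurj (r₀ r).toAdd
      let s : R := ⟨(z, 1), 0, by show (1 : GL (Fin 3) F) = tri φr (xc z) 0; rw [hxZ z hz, tri_zero]⟩
      have hs : r₀ s = Multiplicative.ofAdd (yc z) := by
        have hsame : (low (yc z))⁻¹ * s ∈ D := by
          refine ⟨?_, ?_⟩
          · show (1 : P)⁻¹ * z ∈ Z
            rw [inv_one, one_mul]
            exact hz
          · show (tri φr 0 (yc z))⁻¹ * 1 = tri φr 0 (yc (1⁻¹ * z))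
            rw [mul_one, inv_one, one_mul]
            refine inv_eq_of_sq ?_
            rw [tri_mul, ← tri_zero φr, map_zero, zero_mul, add_zero, add_zero, CharTwo.add_self_eq_zero]
        rw [← hr₀low]
        show Multiplicative.ofAdd (ret _) = Multiplicative.ofAdd (ret _)
        rw [QuotientGroup.eq.mpr hsame]
      refine ⟨⟨r * s, ?_⟩, Subtype.ext ?_⟩
      · show r₀ (r * s) = 1
        rw [map_mul, hs, hzy, ofAdd_toAdd]
        exact Multiplicative.toAdd.injective (CharTwo.add_self_eq_zero _)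
      · show tri φr (xc p) y * 1 = (t : GL (Fin 3) F)
        rw [mul_one, hxy]
  exact ⟨((MulEquiv.ofBijective pP hpP).symm).trans (MulEquiv.ofBijective pT hpT)⟩

end Cfsg.Lib.SuzukiTwo
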