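import Mathlib

/-!
2-groups in which the involutions are central and permuted transitively by a commutative group of
automorphisms: elementary facts.
-/

set_option autoImplicit false
set_option linter.style.haveILetI false

namespace Cfsg.Lib.SuzukiTwo

open scoped commutatorElement

variable {P : Type*} [Group P] {K : Type*} [CommGroup K]

/-- The involutions are central and transitively permuted. -/
structure InvolTrans (ρ : K →* MulAut P) : Prop where
  central : ∀ x : P, x * x = 1 → x ∈ Subgroup.center P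
  trans : ∀ x y : P, x ≠ 1 → x * x = 1 → y ≠ 1 → y * y = 1 → ∃ k, ρ k x = y

/-- Restriction to an invariant subgroup. -/
def restrictAut (ρ : K →* MulAut P) (C : Subgroup P) (hC : ∀ k, ∀ x ∈ C, ρ k x ∈ C) :
    K →* MulAut C where
  toFun k :=
    { toFun := fun x => ⟨ρ k x, hC k x x.2⟩
      invFun := fun x => ⟨ρ k⁻¹ x, hC _ x x.2⟩
      left_inv := fun x => Subtype.ext (by
        show ρ k⁻¹ (ρ k x) = x
        rw [← MulAut.mul_apply, ← map_mul, inv_mul_cancel, map_one]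
        rfl)
      right_inv := fun x => Subtype.ext (by
        show ρ k (ρ k⁻¹ x) = x
        rw [← MulAut.mul_apply, ← map_mul, mul_inv_cancel, map_one]
        rfl)
      map_mul' := fun x y => Subtype.ext (map_mul (ρ k) (x : P) y) }
  map_one' := MulEquiv.ext fun x => Subtype.ext (by
    show ρ 1 x = x
    rw [map_one]
    rfl)
  map_mul' a b := MulEquiv.ext fun x => Subtype.ext (by
    show ρ (a * b) x = ρ a (ρ b x)
    rw [map_mul]
    rfl)

theorem restrictAut_coe (ρ : K →* MulAut P) (C : Subgroup P) (hC : ∀ k, ∀ x ∈ C, ρ k x ∈ C) (k : K) (x : C) :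
    ((restrictAut ρ C hC k x : C) : P) = ρ k x := rfl

/-- The action on an invariant quotient. -/
noncomputable def quotAut (ρ : K →* MulAut P) (N : Subgroup P) [N.Normal] (hN : ∀ k, ∀ x ∈ N, ρ k x ∈ N) :
    K →* MulAut (P ⧸ N) where
  toFun k := QuotientGroup.congr N N (ρ k) (by
    ext x
    refine ⟨?_, fun hx => ⟨ρ k⁻¹ x, hN _ x hx, ?_⟩⟩
    · rintro ⟨y, hy, rfl⟩
      exact hN k y hy
    · show ρ k (ρ k⁻¹ x) = x
      rw [← MulAut.mul_apply, ← map_mul, mul_inv_cancel, map_one]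
      rfl)
  map_one' := MulEquiv.ext fun q => Quotient.inductionOn' q fun x => by
    show ((ρ 1 x : P) : P ⧸ N) = (x : P ⧸ N)
    rw [map_one]
    rfl
  map_mul' a b := MulEquiv.ext fun q => Quotient.inductionOn' q fun x => by
    show ((ρ (a * b) x : P) : P ⧸ N) = ((ρ a (ρ b x) : P) : P ⧸ N)
    rw [map_mul]
    rfl

theorem quotAut_mk (ρ : K →* MulAut P) (N : Subgroup P) [N.Normal] (hN : ∀ k, ∀ x ∈ N, ρ k x ∈ N) (k : K) (x : P) :
    quotAut ρ N hN k (x : P ⧸ N) = ((ρ k x : P) : P ⧸ N) := rfl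

theorem center_invariant (ρ : K →* MulAut P) (k : K) {x : P} (hx : x ∈ Subgroup.center P) :
    ρ k x ∈ Subgroup.center P := by
  rw [Subgroup.mem_center_iff] at hx ⊢
  intro y
  rw [← (ρ k).apply_symm_apply y, ← map_mul, ← map_mul, hx]

variable {ρ : K →* MulAut P}

theorem InvolTrans.restrict (h : InvolTrans ρ) (C : Subgroup P) (hC : ∀ k, ∀ x ∈ C, ρ k x ∈ C) :
    InvolTrans (restrictAut ρ C hC) := by
  refine ⟨fun x hx => ?_, fun x y hx hx2 hy hy2 => ?_⟩
  · rw [Subgroup.mem_center_iff]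
    intro y
    exact Subtype.ext (Subgroup.mem_center_iff.mp (h.central x (congrArg Subtype.val hx)) y)
  · obtain ⟨k, hk⟩ := h.trans x y (fun e => hx (Subtype.ext e)) (congrArg Subtype.val hx2)
      (fun e => hy (Subtype.ext e)) (congrArg Subtype.val hy2)
    exact ⟨k, Subtype.ext hk⟩

theorem mul_sq {a b : P} (h : ⁅b, a⁆ ∈ Subgroup.center P) :
    a * b * (a * b) = a * a * (b * b) * ⁅b, a⁆ := by
  have hz : ∀ y, y * ⁅b, a⁆ = ⁅b, a⁆ * y := Subgroup.mem_center_iff.mp h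
  calc a * b * (a * b) = a * ((b * a * b⁻¹ * a⁻¹) * (a * b)) * b := by group
    _ = a * (⁅b, a⁆ * (a * b)) * b := by rw [commutatorElement_def]
    _ = a * ((a * b) * ⁅b, a⁆) * b := by rw [hz (a * b)]
    _ = a * a * b * (⁅b, a⁆ * b) := by group
    _ = a * a * (b * b) * ⁅b, a⁆ := by rw [← hz b]; group

theorem comm_mul_left {a b c : P} (h : ⁅b, c⁆ ∈ Subgroup.center P) :
    ⁅a * b, c⁆ = ⁅a, c⁆ * ⁅b, c⁆ := by
  rw [commutatorElement_mul_left_eq_conj_mul, Subgroup.mem_center_iff.mp h a, mul_inv_cancel_right,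
    ← Subgroup.mem_center_iff.mp h]

theorem comm_mul_right {a b c : P} (h : ⁅a, c⁆ ∈ Subgroup.center P) :
    ⁅a, b * c⁆ = ⁅a, b⁆ * ⁅a, c⁆ := by
  rw [commutatorElement_mul_right_eq_mul_conj, mul_assoc ⁅a, b⁆ b, Subgroup.mem_center_iff.mp h b,
    mul_assoc, mul_inv_cancel_right]

theorem comm_central {z b : P} (h : z ∈ Subgroup.center P) : ⁅z, b⁆ = 1 :=
  commutatorElement_eq_one_iff_commute.mpr (Subgroup.mem_center_iff.mp h b).symm

theorem comm_sq {w b : P} (h2 : w * w ∈ Subgroup.center P) (h : ⁅w, b⁆ ∈ Subgroup.center P) :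
    ⁅w, b⁆ * ⁅w, b⁆ = 1 := by
  rw [← comm_mul_left h, comm_central h2]

theorem comm_sq_left (a b : P) : ⁅a * a, b⁆ = a * ⁅a, b⁆ * a⁻¹ * ⁅a, b⁆ :=
  commutatorElement_mul_left_eq_conj_mul a a b

theorem inv_eq_of_sq {c : P} (h : c * c = 1) : c⁻¹ = c := inv_eq_of_mul_eq_one_right h

theorem exists_involution (hP : IsPGroup 2 P) {x : P} (hx : x ≠ 1) :
    ∃ i : ℕ, x ^ 2 ^ i ≠ 1 ∧ x ^ 2 ^ (i + 1) = 1 := by
  classical
  have hex : ∃ k, x ^ 2 ^ k = 1 := hP x
  obtain ⟨i, hi⟩ : ∃ i, Nat.find hex = i + 1 := by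
    refine ⟨Nat.find hex - 1, ?_⟩
    have : Nat.find hex ≠ 0 := fun e => hx (by simpa [e] using Nat.find_spec hex)
    omega
  exact ⟨i, Nat.find_min hex (by omega), hi ▸ Nat.find_spec hex⟩

/-- Roots exist in an abelian group. -/
theorem exists_root (hP : IsPGroup 2 P) (hcomm : ∀ x y : P, x * y = y * x) (h : InvolTrans ρ) {a : P}
    {i : ℕ} (ha : a ^ 2 ^ i ≠ 1) :
    ∀ j ≤ i + 1, ∀ x : P, x ^ 2 ^ j = 1 → ∃ y : P, y ^ 2 ^ (i + 1 - j) = x := by
  obtain ⟨b, hb, hb2⟩ : ∃ b : P, b ^ 2 ^ i ≠ 1 ∧ b ^ 2 ^ (i + 1) = 1 := by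
    obtain ⟨t, ht, ht2⟩ := exists_involution hP ha
    refine ⟨a ^ 2 ^ t, ?_, ?_⟩
    · rwa [← pow_mul, mul_comm, pow_mul]
    · rw [← pow_mul, ← pow_add, show t + (i + 1) = i + (t + 1) by omega, pow_add, pow_mul]
      exact ht2
  intro j
  induction j with
  | zero =>
    intro _ x hx
    rw [pow_zero, pow_one] at hx
    exact ⟨1, by rw [one_pow, hx]⟩
  | succ j ih =>
    intro hj x hx
    obtain ⟨u, hu⟩ : ∃ u : P, (u ^ 2 ^ (i - j)) ^ 2 ^ j = x ^ 2 ^ j := by
      by_cases h1 : x ^ 2 ^ j = 1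
      · exact ⟨1, by rw [one_pow, one_pow, h1]⟩
      obtain ⟨k, hk⟩ := h.trans _ _ hb (by rw [← pow_two, ← pow_mul, ← pow_succ]; exact hb2)
        h1 (by rw [← pow_two, ← pow_mul, ← pow_succ]; exact hx)
      refine ⟨ρ k b, ?_⟩
      rw [← pow_mul, ← pow_add, show i - j + j = i by omega, ← map_pow, hk]
    obtain ⟨y, hy⟩ := ih (by omega) (x * (u ^ 2 ^ (i - j))⁻¹) (by
      rw [Commute.mul_pow (hcomm _ _), inv_pow, hu, mul_inv_cancel])
    refine ⟨y ^ 2 * u, ?_⟩
    rw [show i + 1 - (j + 1) = i - j by omega, Commute.mul_pow (hcomm _ _), ← pow_mul, ← pow_succ',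
      show i - j + 1 = i + 1 - j by omega, hy, inv_mul_cancel_right]

/-- The group of elements of order at most two. -/
def omega (h : InvolTrans ρ) : Subgroup P where
  carrier := {x | x * x = 1}
  one_mem' := one_mul 1
  mul_mem' {x y} hx hy := by
    show x * y * (x * y) = 1
    rw [mul_sq (by rw [comm_central (h.central y hy)]; exact one_mem _), hx, hy, comm_central (h.central y hy)]
    simp
  inv_mem' {x} hx := by
    show x⁻¹ * x⁻¹ = 1
    rw [← mul_inv_rev, hx, inv_one]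

theorem mem_omega (h : InvolTrans ρ) {x : P} : x ∈ omega h ↔ x * x = 1 := Iff.rfl

theorem omega_invariant (h : InvolTrans ρ) (k : K) {x : P} (hx : x ∈ omega h) : ρ k x ∈ omega h := by
  rw [mem_omega] at hx ⊢
  rw [← map_mul, hx, map_one]

end Cfsg.Lib.SuzukiTwo
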