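import Cfsg.Agent.RankOne.FrobeniusSpan

/-!
An elementary abelian 2-group with a transitive commutative group of automorphisms is a field, and
the equivariant maps needed for Suzuki 2-groups.
-/

set_option autoImplicit false
set_option linter.style.haveILetI false

namespace Cfsg.Lib.SuzukiTwo

universe u v

theorem exists_field {V : Type u} [CommGroup V] [Finite V] [Nontrivial V] {K : Type v} [CommGroup K]
    (h2 : ∀ x : V, x * x = 1) (ρ : K →* MulAut V)
    (htr : ∀ x y : V, x ≠ 1 → y ≠ 1 → ∃ k, ρ k x = y) :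
    ∃ (F : Type u) (_ : Field F) (_ : Fintype F) (_ : CharP F 2) (e : V ≃* Multiplicative F) (χ : K →* F),
      (∀ x : F, x ≠ 0 → ∃ k, χ k = x) ∧ ∀ (k : K) (x : V), (e (ρ k x)).toAdd = χ k * (e x).toAdd := by
  let φ : K →* AddMonoid.End (Additive V) :=
    { toFun := fun k => MonoidHom.toAdditive (ρ k).toMonoidHom
      map_one' := by
        rw [map_one]
        exact AddMonoidHom.ext fun _ => rfl
      map_mul' := fun a b => by
        rw [map_mul]
        exact AddMonoidHom.ext fun _ => rfl }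
  have hcomm : ∀ x ∈ Set.range φ, ∀ y ∈ Set.range φ, x * y = y * x := by
    rintro _ ⟨a, rfl⟩ _ ⟨b, rfl⟩
    rw [← map_mul, mul_comm, map_mul]
  haveI : Finite (AddMonoid.End (Additive V)) :=
    Finite.of_injective (fun f => (f : Additive V → Additive V)) DFunLike.coe_injective
  let R := Subring.closure (Set.range φ)
  haveI : IsMulCommutative R := Subring.isMulCommutative_closure hcomm
  letI : CommRing R := { (inferInstance : Ring R) with mul_comm := fun a b => IsMulCommutative.is_comm.comm a b }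
  let φ' : K → R := fun k => ⟨φ k, Subring.subset_closure ⟨k, rfl⟩⟩
  have hker : ∀ (r : R) (x : Additive V), x ≠ 0 → (r : AddMonoid.End (Additive V)) x = 0 → r = 0 := by
    intro r x hx hrx
    refine Subtype.ext (AddMonoidHom.ext fun y => ?_)
    by_cases hy : y = 0
    · subst hy
      exact (map_zero _).trans (map_zero _).symm
    obtain ⟨k, hk⟩ := htr x.toMul y.toMul hx hy
    have e : ((r * φ' k : R) : AddMonoid.End (Additive V)) x = ((φ' k * r : R) : AddMonoid.End (Additive V)) x := by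
      rw [mul_comm]
    have hk' : (φ k) x = y := hk
    simp only [Subring.coe_mul, AddMonoid.End.coe_mul, Function.comp_apply] at e
    rw [show ((φ' k : R) : AddMonoid.End (Additive V)) x = y from hk', hrx, map_zero] at e
    exact e
  obtain ⟨v₀, hv₀⟩ := exists_ne (0 : Additive V)
  haveI : Nontrivial R := ⟨⟨1, 0, fun e => hv₀ (congrArg (fun r : R => (r : AddMonoid.End (Additive V)) v₀) e)⟩⟩
  haveI : NoZeroDivisors R := ⟨fun {a b} hab => by
    by_cases hb : b = 0
    · exact Or.inr hb
    left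
    obtain ⟨x, hx⟩ : ∃ x, (b : AddMonoid.End (Additive V)) x ≠ 0 := by
      by_contra hno
      push Not at hno
      exact hb (Subtype.ext (AddMonoidHom.ext hno))
    refine hker a _ hx ?_
    have := congrArg (fun r : R => (r : AddMonoid.End (Additive V)) x) hab
    simpa using this⟩
  haveI : IsDomain R := NoZeroDivisors.to_isDomain R
  letI : Field R := (Finite.isDomain_to_isField R).toField
  haveI : Fintype R := Fintype.ofFinite R
  haveI : CharP R 2 := by
    refine CharTwo.of_one_ne_zero_of_two_eq_zero one_ne_zero ?_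
    refine Subtype.ext (AddMonoidHom.ext fun x => ?_)
    rw [← one_add_one_eq_two]
    show x + x = 0
    exact h2 x.toMul
  let ev : R →+ Additive V :=
    { toFun := fun r => (r : AddMonoid.End (Additive V)) v₀
      map_zero' := rfl
      map_add' := fun _ _ => rfl }
  have hev : Function.Bijective ev := by
    refine ⟨(injective_iff_map_eq_zero ev).mpr fun r hr => hker r v₀ hv₀ hr, fun y => ?_⟩
    by_cases hy : y = 0
    · exact ⟨0, by rw [map_zero, hy]⟩
    obtain ⟨k, hk⟩ := htr v₀.toMul y.toMul hv₀ hy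
    exact ⟨φ' k, hk⟩
  let E := (AddEquiv.ofBijective ev hev).symm
  let χ : K →* R := { toFun := φ', map_one' := Subtype.ext (map_one φ), map_mul' := fun a b => Subtype.ext (map_mul φ a b) }
  refine ⟨R, inferInstance, inferInstance, inferInstance, AddEquiv.toMultiplicativeRight E, χ, fun r hr => ?_, fun k x => ?_⟩
  · have hy : ev r ≠ 0 := fun e => hr (hker r v₀ hv₀ e)
    obtain ⟨k, hk⟩ := htr v₀.toMul (ev r).toMul hv₀ hy
    exact ⟨k, hev.1 hk⟩
  · show E (Additive.ofMul (ρ k x)) = φ' k * E (Additive.ofMul x)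
    refine hev.1 ?_
    rw [show ev (E _) = _ from (AddEquiv.ofBijective ev hev).apply_symm_apply _]
    show _ = (φ k) (ev (E _))
    rw [show ev (E _) = _ from (AddEquiv.ofBijective ev hev).apply_symm_apply _]
    rfl

variable {F : Type u} [Field F] [Fintype F] [CharP F 2]

theorem isSquare_all (x : F) : ∃ y, y * y = x := by
  obtain ⟨y, hy⟩ := FiniteField.isSquare_of_char_two (ringChar.eq F 2) x
  exact ⟨y, hy.symm⟩

/-- An equivariant alternating biadditive map vanishes. -/
theorem alternating_eq_zero (B : F → F → F) (hl : ∀ a b c, B (a + b) c = B a c + B b c)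
    (hr : ∀ a b c, B a (b + c) = B a b + B a c) (halt : ∀ a, B a a = 0)
    (hK : ∀ l a b, l ≠ 0 → B (l * a) (l * b) = l * B a b) : ∀ a b, B a b = 0 := by
  have hz : ∀ b, B 0 b = 0 := fun b => by simpa using hl 0 0 b
  have hsym : ∀ a b, B a b = B b a := fun a b => by
    have h := halt (a + b)
    rw [hl, hr, hr, halt, halt, zero_add, add_zero] at h
    exact CharTwo.add_eq_zero.mp h
  set g : F → F := fun y => B 1 y
  have hg1 : g 1 = 0 := halt 1
  have hgadd : ∀ a b, g (a + b) = g a + g b := fun a b => hr 1 a b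
  have hgen : ∀ x y, x ≠ 0 → B x y = x * g (y / x) := fun x y hx => by
    rw [← hK x 1 (y / x) hx, mul_one, mul_div_cancel₀ _ hx]
  have hrec : ∀ y, y ≠ 0 → g y = y * g (1 / y) := fun y hy => by
    rw [show g y = B 1 y from rfl, hsym, hgen y 1 hy]
  have hsq : ∀ t : F, g (t * t) = 0 := by
    intro t
    by_cases ht : t = 0
    · rw [ht, mul_zero]
      simpa using hgadd 0 0
    by_cases ht1 : 1 + t = 0
    · rw [← CharTwo.add_eq_zero.mp ht1, mul_one, hg1]
    have h1 : B (1 + t) (t * t) = g (t * t) + t * g t := by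
      rw [hl, hgen t (t * t) ht, mul_div_cancel_right₀ _ ht]
    have h2 : t * t / (1 + t) = t + 1 + 1 / (1 + t) := by
      field_simp
      linear_combination (-(t + 1) : F) * (CharTwo.two_eq_zero (R := F))
    have h3 : g t = g (1 + t) := by rw [hgadd, hg1, zero_add]
    have h4 : g (1 / (1 + t)) = g (1 + t) / (1 + t) := by
      rw [hrec (1 + t) ht1, mul_div_cancel_left₀ _ ht1]
    rw [hgen _ _ ht1, h2, hgadd, hgadd, hg1, h4, ← h3, add_zero, mul_add, mul_div_cancel₀ _ ht1] at h1
    linear_combination -h1 + g t * (CharTwo.two_eq_zero (R := F))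
  intro a b
  by_cases ha : a = 0
  · rw [ha, hz]
  obtain ⟨s, hs⟩ := isSquare_all (b / a)
  rw [hgen a b ha, ← hs, hsq, mul_zero]

/-- In an irreducible module of additive maps under conjugation by a generator, nonzero maps are injective. -/
theorem injective_of_minimal (M : AddSubgroup (F →+ F)) (ω : F) (hω : ω ≠ 0)
    (hgen : ∀ x : F, x ≠ 0 → ∃ i : ℕ, ω ^ i = x)
    (hT : ∀ π ∈ M, ∃ π' ∈ M, ∀ x, π' (ω * x) = ω * π x)
    (hfix : ∀ π ∈ M, (∀ x, π (ω * x) = ω * π x) → π = 0)
    (hmin : ∀ N : AddSubgroup (F →+ F), N ≤ M →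
      (∀ π ∈ N, ∀ π' ∈ M, (∀ x, π' (ω * x) = ω * π x) → π' ∈ N) → N = ⊥ ∨ N = M) :
    ∀ π ∈ M, π ≠ 0 → Function.Injective π := by
  classical
  haveI : Finite (F ≃+* F) := Finite.of_injective (fun e => (e : F → F)) DFunLike.coe_injective
  letI : Fintype (F ≃+* F) := Fintype.ofFinite _
  haveI : Fact (Nat.Prime 2) := ⟨Nat.prime_two⟩
  letI : Algebra (ZMod 2) F := ZMod.algebra F 2
  have hex : ∀ f : F →+ F, ∃ c : (F ≃+* F) → F, ∀ x, f x = ∑ σ, c σ * σ x := fun f =>
    (Cfsg.Lib.RankOne.aut_span f).imp fun c h x => by rw [h, finsum_eq_sum_of_fintype]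
  choose coef hcoef using hex
  have huniq : ∀ (f : F →+ F) (c : (F ≃+* F) → F), (∀ x, f x = ∑ σ, c σ * σ x) → coef f = c := by
    intro f c hc
    funext σ
    refine sub_eq_zero.1 (Fintype.linearIndependent_iff.1 (Cfsg.Lib.RankOne.aut_indep (F := F))
      (coef f - c) (funext fun x => ?_) σ)
    have := (hcoef f x).symm.trans (hc x)
    simp [sub_mul, Finset.sum_sub_distrib, this]
  have hcz : coef 0 = 0 := huniq _ _ fun x => by simp
  have hca : ∀ f g, coef (f + g) = coef f + coef g := fun f g => huniq _ _ fun x => by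
    simp [hcoef f x, hcoef g x, add_mul, Finset.sum_add_distrib]
  have hext : ∀ f g, coef f = coef g → f = g := fun f g h => AddMonoidHom.ext fun x => by
    rw [hcoef, hcoef, h]
  let a : (F ≃+* F) → F := fun σ => ω / σ ω
  have hσω : ∀ σ : F ≃+* F, σ ω ≠ 0 := fun σ => (map_ne_zero σ).mpr hω
  have hTc : ∀ f g : F →+ F, (∀ x, g (ω * x) = ω * f x) → coef g = fun σ => a σ * coef f σ := by
    intro f g h
    refine huniq _ _ fun x => ?_
    conv_lhs => rw [← mul_div_cancel₀ x hω, h, hcoef, Finset.mul_sum]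
    refine Finset.sum_congr rfl fun σ _ => ?_
    rw [map_div₀]
    simp only [a]
    field_simp
  have hpoly : ∀ (r : Polynomial (ZMod 2)), ∀ π ∈ M,
      ∃ π' ∈ M, coef π' = fun σ => Polynomial.aeval (a σ) r * coef π σ := by
    intro r
    induction r using Polynomial.induction_on with
    | C c =>
      intro π hπ
      refine ⟨c.val • π, M.nsmul_mem hπ _, huniq _ _ fun x => ?_⟩
      rw [AddMonoidHom.nsmul_apply, hcoef, Finset.smul_sum]
      refine Finset.sum_congr rfl fun σ _ => ?_
      rw [Polynomial.aeval_C, nsmul_eq_mul, ← mul_assoc, ← map_natCast (algebraMap (ZMod 2) F),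
        ZMod.natCast_zmod_val]
    | add p q hp hq =>
      intro π hπ
      obtain ⟨f, hf, ef⟩ := hp π hπ
      obtain ⟨g, hg, eg⟩ := hq π hπ
      exact ⟨f + g, M.add_mem hf hg, by rw [hca, ef, eg]; funext σ; simp [add_mul]⟩
    | monomial n c ih =>
      intro π hπ
      obtain ⟨f, hf, ef⟩ := ih π hπ
      obtain ⟨g, hg, eg⟩ := hT f hf
      refine ⟨g, hg, ?_⟩
      rw [hTc f g eg, ef]
      funext σ
      simp [pow_succ]
      ring
  have hsupp : ∀ π ∈ M, ∀ σ, coef π σ ≠ 0 → ∀ f ∈ M, coef f σ = 0 → f = 0 := by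
    intro π hπ σ hσ f hf hfσ
    let N : AddSubgroup (F →+ F) :=
      { carrier := {g | g ∈ M ∧ coef g σ = 0}
        zero_mem' := ⟨M.zero_mem, by rw [hcz]; rfl⟩
        add_mem' := fun {g h} hg hh => ⟨M.add_mem hg.1 hh.1, by rw [hca, Pi.add_apply, hg.2, hh.2, add_zero]⟩
        neg_mem' := fun {g} hg => ⟨M.neg_mem hg.1, by
          have := congrFun (hca g (-g)) σ
          rw [add_neg_cancel, hcz, Pi.add_apply, hg.2, zero_add] at this
          exact this.symm⟩ }
    rcases hmin N (fun g hg => hg.1) (fun g hg g' hg' h =>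
      ⟨hg', by rw [hTc g g' h]; show a σ * coef g σ = 0; rw [hg.2, mul_zero]⟩) with h | h
    · exact AddSubgroup.mem_bot.mp (h ▸ (show f ∈ N from ⟨hf, hfσ⟩))
    · exact absurd (h.symm ▸ hπ : π ∈ N).2 hσ
  intro π hπ hne
  have hkill : ∀ σ, coef π σ ≠ 0 → ∀ r : Polynomial (ZMod 2), Polynomial.aeval (a σ) r = 0 →
      ∀ σ', coef π σ' ≠ 0 → Polynomial.aeval (a σ') r = 0 := by
    intro σ hσ r hr σ' hσ'
    obtain ⟨f, hf, ef⟩ := hpoly r π hπ
    have hf0 := hsupp π hπ σ hσ f hf (by rw [ef]; show _ * _ = 0; rw [hr, zero_mul])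
    rw [hf0, hcz] at ef
    exact (mul_eq_zero.mp (congrFun ef σ').symm).resolve_right hσ'
  have hext' : ∀ σ τ : F ≃+* F, σ ω = τ ω → σ = τ := fun σ τ h => RingEquiv.ext fun x => by
    by_cases hx : x = 0
    · rw [hx, map_zero, map_zero]
    obtain ⟨i, rfl⟩ := hgen x hx
    rw [map_pow, map_pow, h]
  have hone : coef π (RingEquiv.refl F) = 0 := by
    by_contra h1
    refine hne (hfix π hπ fun x => ?_)
    have h0 : ∀ σ, coef π σ ≠ 0 → σ = RingEquiv.refl F := fun σ hσ => by
      have := hkill _ h1 (Polynomial.X - 1) (by simp [a, div_self hω]) σ hσ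
      rw [map_sub, Polynomial.aeval_X, map_one, sub_eq_zero, div_eq_one_iff_eq (hσω σ)] at this
      exact hext' σ (RingEquiv.refl F) this.symm
    rw [hcoef, hcoef, Finset.mul_sum]
    refine Finset.sum_congr rfl fun σ _ => ?_
    by_cases hσ : coef π σ = 0
    · simp [hσ]
    · obtain rfl := h0 σ hσ
      simp only [RingEquiv.refl_apply]
      ring
  obtain ⟨σ₁, h₁⟩ : ∃ σ, coef π σ ≠ 0 := by
    by_contra hno
    push Not at hno
    exact hne (hext π 0 (by rw [hcz]; funext σ; exact hno σ))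
  have honly : ∀ σ, coef π σ ≠ 0 → σ = σ₁ := by
    intro σ hσ
    have hint : IsIntegral (ZMod 2) (a σ₁) := Algebra.IsIntegral.isIntegral _
    obtain ⟨τ, hτ⟩ := minpoly.exists_algEquiv_of_root hint.isAlgebraic
      (hkill σ₁ h₁ (minpoly (ZMod 2) (a σ₁)) (minpoly.aeval _ _) σ hσ)
    have hrel : τ ω * σ₁ ω = ω * τ (σ ω) := by
      simp only [a, map_div₀] at hτ
      rwa [div_eq_div_iff ((map_ne_zero τ).mpr (hσω σ)) (hσω σ₁)] at hτ
    have hall : ∀ x : F, τ x * σ₁ x = x * τ (σ x) := fun x => by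
      by_cases hx : x = 0
      · simp [hx]
      obtain ⟨i, rfl⟩ := hgen x hx
      simp only [map_pow, ← mul_pow, hrel]
    have hprod : (ω + τ ω) * (ω + σ₁ ω) = 0 := by
      have h1 := hall (ω + 1)
      simp only [map_add, map_one] at h1
      linear_combination (ω + 1) * hall ω - ω * h1 + (ω * τ ω + ω * σ₁ ω) * (CharTwo.two_eq_zero (R := F))
    rcases mul_eq_zero.mp hprod with h | h
    · have hτ1 : τ.toRingEquiv = RingEquiv.refl F := hext' _ _ (CharTwo.add_eq_zero.mp h).symm
      refine hext' _ _ ?_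
      have h2 := hrel
      rw [show τ (σ ω) = σ ω from RingEquiv.congr_fun hτ1 _, show τ ω = ω from RingEquiv.congr_fun hτ1 _] at h2
      exact (mul_left_cancel₀ hω h2).symm
    · exact absurd ((hext' σ₁ (RingEquiv.refl F) (CharTwo.add_eq_zero.mp h).symm) ▸ hone) h₁
  refine (injective_iff_map_eq_zero π).mpr fun x hx => ?_
  rw [hcoef, Finset.sum_eq_single σ₁ (fun σ _ h => ?_) (by simp), mul_eq_zero, map_eq_zero] at hx
  · exact hx.resolve_left h₁
  · rw [not_imp_comm.mp (honly σ) h, zero_mul]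

end Cfsg.Lib.SuzukiTwo
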